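import Cfsg.Agent.Lib.LocalEven.SzL2Offender.Bound
import Cfsg.Agent.Lib.LocalEven.CharP

/-!
Sylow `2`-subgroups of subgroups, `O₂`, E-subgroups and `Ω₁` inside an ambient group, as used for
the 2-factorization theorem.
-/

set_option autoImplicit false
set_option linter.style.haveILetI false

universe u

namespace CfsgLib.LocalEven.TwoFactor

open Cfsg CfsgLib.LocalEven.S4W CfsgLib.Techniques
open CfsgLib.LocalEven.SzL2 (exists_mul_of_mem_sup)
open scoped commutatorElement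

variable {G : Type u} [Group G] [Finite G]

theorem exists_odd_pow (g : G) : ∃ k : ℕ, Odd (orderOf (g ^ 2 ^ k)) := by
  obtain ⟨k, m, hm, hord⟩ := Nat.exists_eq_pow_mul_and_not_dvd (orderOf_pos g).ne' 2 (by norm_num)
  refine ⟨k, ?_⟩
  rw [orderOf_pow_of_dvd (pow_ne_zero k two_ne_zero) (Dvd.intro m hord.symm), hord,
    Nat.mul_div_cancel_left _ (pow_pos two_pos k)]
  exact Nat.odd_iff.2 (by omega)

omit [Finite G] in
theorem odd_orderOf_pow {g : G} (h : Odd (orderOf g)) (n : ℕ) : Odd (orderOf (g ^ n)) :=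
  h.of_dvd_nat (orderOf_pow_dvd n)

omit [Finite G] in
theorem odd_orderOf_conj {g : G} (h : Odd (orderOf g)) (x : G) : Odd (orderOf (x * g * x⁻¹)) := by
  rwa [show x * g * x⁻¹ = MulAut.conj x g from rfl, MulEquiv.orderOf_eq]

omit [Finite G] in
/-- An element of odd order is a power of its square powers. -/
theorem mem_of_pow_two_pow_mem {H : Subgroup G} {g : G} (hg : Odd (orderOf g)) {k : ℕ}
    (h : g ^ 2 ^ k ∈ H) : g ∈ H := by
  obtain ⟨u, v, huv⟩ : IsCoprime ((2 ^ k : ℕ) : ℤ) (orderOf g : ℤ) :=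
    Int.isCoprime_iff_gcd_eq_one.2 (by
      rw [Int.gcd_natCast_natCast]
      exact Nat.Coprime.pow_left _ (Nat.coprime_two_left.2 hg))
  have e : g = (g ^ 2 ^ k) ^ u := by
    conv_lhs => rw [← zpow_one g, ← huv, zpow_add, mul_comm u, zpow_mul, zpow_natCast,
      mul_comm v, zpow_mul, zpow_natCast, pow_orderOf_eq_one, one_zpow, mul_one]
  rw [e]
  exact H.zpow_mem h u

omit [Finite G] in
theorem eq_one_of_odd_of_isPGroup {P : Subgroup G} (hP : IsPGroup 2 P) {g : G} (hg : g ∈ P)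
    (ho : Odd (orderOf g)) : g = 1 := by
  obtain ⟨k, hk⟩ := hP ⟨g, hg⟩
  exact Subgroup.mem_bot.1 (mem_of_pow_two_pow_mem ho (k := k)
    (Subgroup.mem_bot.2 (congrArg Subtype.val hk)))

omit [Finite G] in
theorem isPGroup_of_odd_trivial [Finite G] {P : Subgroup G}
    (h : ∀ g ∈ P, Odd (orderOf g) → g = 1) : IsPGroup 2 P := by
  rintro ⟨g, hg⟩
  obtain ⟨k, hk⟩ := exists_odd_pow g
  exact ⟨k, Subtype.ext (h _ (P.pow_mem hg _) hk)⟩

/-- `U` is a Sylow `2`-subgroup of the subgroup `X`. -/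
structure Syl (U X : Subgroup G) : Prop where
  le : U ≤ X
  two : IsPGroup 2 U
  odd : ¬ 2 ∣ U.relIndex X

omit [Finite G] in
theorem Syl.of_sylow [Finite G] (S : Sylow 2 G) : Syl (S : Subgroup G) ⊤ := by
  haveI : Fact (Nat.Prime 2) := ⟨Nat.prime_two⟩
  exact ⟨le_top, S.2, by rw [Subgroup.relIndex_top_right]; exact S.not_dvd_index⟩

theorem Syl.mono {U X Y : Subgroup G} (h : Syl U X) (hUY : U ≤ Y) (hYX : Y ≤ X) : Syl U Y :=
  ⟨hUY, h.two, fun hd => h.odd (hd.trans (Dvd.intro _ (Subgroup.relIndex_mul_relIndex U Y X hUY hYX)))⟩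

/-- A subgroup containing a Sylow `2`-subgroup and all elements of odd order is everything. -/
theorem le_of_syl_of_odd {U X M : Subgroup G} (hU : Syl U X) (hUM : U ≤ M)
    (hodd : ∀ g ∈ X, Odd (orderOf g) → g ∈ M) : X ≤ M := by
  refine Subgroup.relIndex_eq_one.1 ?_
  by_contra hne
  obtain ⟨p, hp, hpd⟩ := Nat.exists_prime_and_dvd hne
  rcases eq_or_ne p 2 with rfl | hp2
  · refine hU.odd (hpd.trans ?_)
    rw [← Subgroup.inf_relIndex_right M X]
    exact Dvd.intro_left _ (Subgroup.relIndex_mul_relIndex U (M ⊓ X) X (le_inf hUM hU.le) inf_le_right)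
  haveI := Fact.mk hp
  obtain ⟨P⟩ : Nonempty (Sylow p X) := inferInstance
  refine P.not_dvd_index (hpd.trans (Subgroup.index_dvd_of_le fun x hx => ?_))
  obtain ⟨k, hk⟩ := P.2 ⟨x, hx⟩
  have hd : orderOf (x : G) ∣ p ^ k := orderOf_dvd_of_pow_eq_one
    (congrArg (fun t : (P : Subgroup X) => ((t : X) : G)) hk)
  exact Subgroup.mem_subgroupOf.2 (hodd x x.2 ((hp.odd_of_ne_two hp2).pow.of_dvd_nat hd))

/-- A `2`-subgroup of `X` is conjugate into a Sylow `2`-subgroup. -/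
theorem Syl.conj_le {U X R : Subgroup G} (hU : Syl U X) (hR : IsPGroup 2 R) (hRX : R ≤ X) :
    ∃ g ∈ X, cj g R ≤ U := by
  haveI : Fact (Nat.Prime 2) := ⟨Nat.prime_two⟩
  set P : Sylow 2 X := (hU.two.comap_subtype : IsPGroup 2 (U.subgroupOf X)).toSylow hU.odd
  obtain ⟨Q, hQ⟩ := (hR.comap_subtype : IsPGroup 2 (R.subgroupOf X)).exists_le_sylow
  obtain ⟨g, hg⟩ := MulAction.exists_smul_eq X Q P
  refine ⟨g, g.2, ?_⟩
  rintro _ ⟨r, hr, rfl⟩
  have h1 : g * ⟨r, hRX hr⟩ * g⁻¹ ∈ (P : Subgroup X) :=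
    hg ▸ ⟨⟨r, hRX hr⟩, hQ hr, rfl⟩
  exact h1

theorem Syl.le_of_normal {U X N : Subgroup G} (hU : Syl U X) (hN : IsPGroup 2 N) (hNX : N ≤ X)
    (hXN : X ≤ Subgroup.normalizer (N : Set G)) : N ≤ U := by
  obtain ⟨g, hg, h⟩ := hU.conj_le hN hNX
  rwa [mem_normalizer_iff_cj.1 (hXN hg)] at h

theorem Syl.inf_normal {U X K : Subgroup G} (hU : Syl U X) (hKX : K ≤ X)
    (hXK : X ≤ Subgroup.normalizer (K : Set G)) : Syl (U ⊓ K) K := by
  refine ⟨inf_le_right, hU.two.to_le inf_le_left, fun hd => hU.odd (hd.trans ?_)⟩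
  rw [Subgroup.inf_relIndex_right, ← relIndex_sup_eq' hU hXK]
  exact Dvd.intro _ (Subgroup.relIndex_mul_relIndex U (K ⊔ U) X le_sup_right
    (sup_le hKX hU.le))
where
  relIndex_sup_eq' {U X K : Subgroup G} (hU : Syl U X) (hXK : X ≤ Subgroup.normalizer (K : Set G)) :
      U.relIndex (K ⊔ U) = U.relIndex K := by
    have h1 := card_eq_relIndex_mul (le_sup_right : U ≤ K ⊔ U)
    have h2 := card_eq_relIndex_mul (inf_le_left : U ⊓ K ≤ U)
    have h3 := card_eq_relIndex_mul (inf_le_right : U ⊓ K ≤ K)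
    rw [Subgroup.inf_relIndex_right] at h3
    have h4 := card_eq_relIndex_mul (le_sup_left : K ≤ K ⊔ U)
    rw [sup_comm, relIndex_sup_eq (hU.le.trans hXK), ← Subgroup.inf_relIndex_right K U, inf_comm]
      at h4
    refine Nat.eq_of_mul_eq_mul_right (Nat.card_pos (α := U)) ?_
    rw [← h1, sup_comm, h4, h3, h2]
    ring

/-- Frattini argument. -/
theorem Syl.frattini {U X K : Subgroup G} (hU : Syl U X) (hKX : K ≤ X)
    (hXK : X ≤ Subgroup.normalizer (K : Set G)) {g : G} (hg : g ∈ X) :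
    ∃ k ∈ K, ∃ n ∈ X, n ∈ Subgroup.normalizer ((U ⊓ K : Subgroup G) : Set G) ∧ g = k * n := by
  have hV := hU.inf_normal hKX hXK
  set V := U ⊓ K
  obtain ⟨k, hk, hle⟩ := hV.conj_le ((hV.two.map (MulAut.conj g).toMonoidHom) :
    IsPGroup 2 (cj g V)) (by
      intro v hv
      obtain ⟨w, hw, rfl⟩ := hv
      exact (Subgroup.mem_normalizer_iff.1 (hXK hg) w).1 (inf_le_right (a := U) hw))
  refine ⟨k⁻¹, K.inv_mem hk, k * g, X.mul_mem (hKX hk) hg, ?_, by group⟩
  rw [← cj_mul] at hle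
  rw [mem_normalizer_iff_cj]
  exact Subgroup.eq_of_le_of_card_ge hle (card_cj _ _).ge

omit [Finite G] in
theorem le_normalizer_of_le_inf {X A B : Subgroup G} (hA : X ≤ Subgroup.normalizer (A : Set G))
    (hB : X ≤ Subgroup.normalizer (B : Set G)) :
    X ≤ Subgroup.normalizer ((A ⊓ B : Subgroup G) : Set G) := fun g hg =>
  mem_normalizer_iff_cj.2 (by rw [cj_inf, mem_normalizer_iff_cj.1 (hA hg), mem_normalizer_iff_cj.1 (hB hg)])

omit [Finite G] in
theorem le_normalizer_centralizer {X A : Subgroup G} (hA : X ≤ Subgroup.normalizer (A : Set G)) :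
    X ≤ Subgroup.normalizer (Subgroup.centralizer (A : Set G) : Set G) := fun _ hg =>
  CfsgLib.LocalEven.SzL2.mem_normalizer_centralizer (hA hg)

omit [Finite G] in
theorem le_normalizer_self_inf {X A : Subgroup G} (hA : X ≤ Subgroup.normalizer (A : Set G)) :
    X ≤ Subgroup.normalizer ((X ⊓ A : Subgroup G) : Set G) :=
  le_normalizer_of_le_inf Subgroup.le_normalizer hA

/-- `O₂(X)` inside the ambient group. -/
theorem coreTwo_spec (X : Subgroup G) :
    pCoreOf 2 X ≤ X ∧ IsPGroup 2 (pCoreOf 2 X) ∧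
      X ≤ Subgroup.normalizer (pCoreOf 2 X : Set G) ∧
      ∀ N : Subgroup G, N ≤ X → IsPGroup 2 N → X ≤ Subgroup.normalizer (N : Set G) →
        N ≤ pCoreOf 2 X := by
  refine ⟨Subgroup.map_subtype_le _, (CfsgLib.Base.isPGroup_pCore 2 X).map _, fun g hg => ?_,
    fun N hNX hN hXN => ?_⟩
  · refine Subgroup.le_normalizer_map X.subtype ⟨⟨g, hg⟩, ?_, rfl⟩
    rw [Subgroup.normalizer_eq_top]
    exact Subgroup.mem_top _
  · haveI : (N.subgroupOf X).Normal := Subgroup.normal_subgroupOf_of_le_normalizer hXN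
    have h := CfsgLib.Base.le_pCore (N := N.subgroupOf X) hN.comap_subtype
    rw [← Subgroup.map_subgroupOf_eq_of_le hNX]
    exact Subgroup.map_mono h

/-- `X` has characteristic `2`: `C_X(O₂(X)) ≤ O₂(X)`. -/
def CharTwoType (X : Subgroup G) : Prop :=
  X ⊓ Subgroup.centralizer (pCoreOf 2 X : Set G) ≤ pCoreOf 2 X

theorem CharTwoType.of_le {X Y : Subgroup G} (h : CharTwoType X) (hYX : Y ≤ X)
    (hQY : pCoreOf 2 X ≤ Y) : CharTwoType Y := by
  obtain ⟨-, hQ2, hXQ, -⟩ := coreTwo_spec X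
  have hle := (coreTwo_spec Y).2.2.2 _ hQY hQ2 (hYX.trans hXQ)
  exact (inf_le_inf hYX (Subgroup.centralizer_le hle)).trans (h.trans hle)

theorem CharTwoType.of_normal {X K : Subgroup G} (h : CharTwoType X) (hKX : K ≤ X)
    (hXK : X ≤ Subgroup.normalizer (K : Set G)) : CharTwoType K := by
  obtain ⟨hQX, hQ2, hXQ, -⟩ := coreTwo_spec X
  obtain ⟨hRK, hR2, hKR, hmax⟩ := coreTwo_spec K
  set Q := pCoreOf 2 X
  set N := K ⊓ Q
  set C := K ⊓ Subgroup.centralizer (N : Set G)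
  have hKQ : K ≤ Subgroup.normalizer (N : Set G) := le_normalizer_self_inf (hKX.trans hXQ)
  have hNR : N ≤ pCoreOf 2 K := hmax N inf_le_left (hQ2.to_le inf_le_right) hKQ
  have hC2 : IsPGroup 2 C := isPGroup_of_odd_trivial fun g hg ho => by
    refine eq_one_of_odd_of_isPGroup hQ2 (h ⟨hKX hg.1, ?_⟩) ho
    refine Subgroup.mem_centralizer_iff.2 fun q hq => ?_
    have hi : g * q * g⁻¹ * q⁻¹ ∈ N := by
      refine ⟨?_, Q.mul_mem ((Subgroup.mem_normalizer_iff.1 (hXQ (hKX hg.1)) q).1 hq) (Q.inv_mem hq)⟩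
      have h1 := (Subgroup.mem_normalizer_iff.1 (hXK (hQX hq)) g⁻¹).1 (K.inv_mem hg.1)
      have e : g * q * g⁻¹ * q⁻¹ = g * (q * g⁻¹ * q⁻¹) := by group
      rw [e]
      exact K.mul_mem hg.1 h1
    have h2 : g * q * g⁻¹ * q⁻¹ = 1 := eq_one_of_chain (x := g) (v := q) ho
      (by rw [← Subgroup.mem_centralizer_iff.1 hg.2 _ hi, mul_inv_cancel_right]) (by group) hQ2
      hi.2
    rw [← mul_inv_eq_iff_eq_mul.1 (mul_inv_eq_one.1 h2)]
  have hCR : C ≤ pCoreOf 2 K :=
    hmax C inf_le_left hC2 (le_normalizer_self_inf (le_normalizer_centralizer hKQ))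
  exact (inf_le_inf_left K (Subgroup.centralizer_le hNR)).trans hCR

omit [Finite G] in
theorem omegaOne_le' (H : Subgroup G) : omegaOne 2 H ≤ H :=
  (Subgroup.closure_le _).2 fun _ hx => hx.1

omit [Finite G] in
theorem el_closure {s : Set G} (h1 : ∀ x ∈ s, x ^ 2 = 1) (h2 : ∀ x ∈ s, ∀ y ∈ s, x * y = y * x) :
    IsElementaryAbelian 2 (Subgroup.closure s) := by
  have hc : IsMulCommutative (Subgroup.closure s) := Subgroup.isMulCommutative_closure h2
  refine ⟨hc, fun x hx => ?_⟩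
  induction hx using Subgroup.closure_induction with
  | mem x hx => exact h1 x hx
  | one => simp
  | mul x y hx hy ex ey =>
    have e : Commute x y := congrArg Subtype.val (mul_comm'
      (⟨x, hx⟩ : Subgroup.closure s) ⟨y, hy⟩)
    rw [e.mul_pow, ex, ey, one_mul]
  | inv x _ ex => rw [inv_pow, ex, inv_one]

omit [Finite G] in
theorem el_omegaOne {H : Subgroup G} (h : H ≤ Subgroup.centralizer (H : Set G)) :
    IsElementaryAbelian 2 (omegaOne 2 H) :=
  el_closure (fun _ hx => hx.2) fun _ hx y hy =>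
    (Subgroup.mem_centralizer_iff.1 (h hx.1) y hy.1).symm

omit [Finite G] in
theorem el_sup {A B : Subgroup G} (hA : IsElementaryAbelian 2 A) (hB : IsElementaryAbelian 2 B)
    (h : A ≤ Subgroup.centralizer (B : Set G)) : IsElementaryAbelian 2 (A ⊔ B) := by
  rw [Subgroup.sup_eq_closure]
  refine el_closure ?_ ?_
  · rintro x (hx | hx)
    exacts [hA.2 x hx, hB.2 x hx]
  · rintro x (hx | hx) y (hy | hy)
    exacts [comm_el hA hx hy, (Subgroup.mem_centralizer_iff.1 (h hx) y hy).symm,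
      Subgroup.mem_centralizer_iff.1 (h hy) x hx, comm_el hB hx hy]

omit [Finite G] in
theorem omegaOne_normal' {X H : Subgroup G} (h : X ≤ Subgroup.normalizer (H : Set G)) :
    X ≤ Subgroup.normalizer (omegaOne 2 H : Set G) := by
  intro g hg
  rw [mem_normalizer_iff_cj]
  unfold omegaOne
  rw [cj, MonoidHom.map_closure]
  congr 1
  ext x
  constructor
  · rintro ⟨y, ⟨hy, hy2⟩, rfl⟩
    refine ⟨(Subgroup.mem_normalizer_iff.1 (h hg) y).1 hy, ?_⟩
    show (g * y * g⁻¹) ^ 2 = 1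
    rw [conj_pow, hy2, mul_one, mul_inv_cancel]
  · rintro ⟨hx, hx2⟩
    refine ⟨g⁻¹ * x * g, ⟨by
      simpa using (Subgroup.mem_normalizer_iff.1 (h (X.inv_mem hg)) x).1 hx, ?_⟩, by
      simp [mul_assoc]⟩
    have e : g⁻¹ * x * g = g⁻¹ * x * (g⁻¹)⁻¹ := by group
    rw [e, conj_pow, hx2, mul_one, mul_inv_cancel]

/-- The image of `R` in the automorphisms of `V` is elementary abelian. -/
def ElImg (V R : Subgroup G) : Prop :=
  ⁅R, R⁆ ≤ Subgroup.centralizer (V : Set G) ∧ ∀ r ∈ R, r ^ 2 ∈ Subgroup.centralizer (V : Set G)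

omit [Finite G] in
theorem elImg_of_el {V R : Subgroup G} (hR : IsElementaryAbelian 2 R) : ElImg V R := by
  refine ⟨?_, fun r hr => by rw [hR.2 r hr]; exact Subgroup.one_mem _⟩
  rw [Subgroup.commutator_le]
  intro a ha b hb
  rw [commutatorElement_eq_one_iff_mul_comm.2 (comm_el hR ha hb)]
  exact Subgroup.one_mem _

/-- The strong offender bound on `V` for the operators in `U`. -/
def PropV (U V : Subgroup G) : Prop :=
  ∀ R ≤ U, ElImg V R → ¬ R ≤ Subgroup.centralizer (V : Set G) →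
    (Subgroup.centralizer (V : Set G)).relIndex R ^ 3 <
        (Subgroup.centralizer (R : Set G)).relIndex V ^ 2 ∧
      (Subgroup.centralizer (V : Set G)).relIndex R < Nat.card ↥⁅V, R⁆

/-- An E-subgroup, stated in the ambient group. -/
def EG (U : Subgroup G) : Prop :=
  ∀ V ≤ U, U ≤ Subgroup.normalizer (V : Set G) → IsElementaryAbelian 2 V → PropV U V →
    U ≤ Subgroup.centralizer (V : Set G)

theorem relIndex_pow_lt_iff {V R : Subgroup G} :
    (Nat.card R) ^ 3 * (Nat.card ↥(V ⊓ Subgroup.centralizer (R : Set G))) ^ 2 <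
        (Nat.card V) ^ 2 * (Nat.card ↥(R ⊓ Subgroup.centralizer (V : Set G))) ^ 3 ↔
      (Subgroup.centralizer (V : Set G)).relIndex R ^ 3 <
        (Subgroup.centralizer (R : Set G)).relIndex V ^ 2 := by
  have h1 := card_eq_relIndex_mul (inf_le_left : R ⊓ Subgroup.centralizer (V : Set G) ≤ R)
  have h2 := card_eq_relIndex_mul (inf_le_left : V ⊓ Subgroup.centralizer (R : Set G) ≤ V)
  rw [Subgroup.inf_relIndex_left] at h1 h2
  have hp : 0 < Nat.card ↥(R ⊓ Subgroup.centralizer (V : Set G)) ^ 3 *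
      Nat.card ↥(V ⊓ Subgroup.centralizer (R : Set G)) ^ 2 :=
    Nat.mul_pos (pow_pos Nat.card_pos _) (pow_pos Nat.card_pos _)
  set α := Nat.card ↥(R ⊓ Subgroup.centralizer (V : Set G))
  set β := Nat.card ↥(V ⊓ Subgroup.centralizer (R : Set G))
  set r := (Subgroup.centralizer (V : Set G)).relIndex R
  set x := (Subgroup.centralizer (R : Set G)).relIndex V
  rw [h1, h2, show (r * α) ^ 3 * β ^ 2 = r ^ 3 * (α ^ 3 * β ^ 2) by ring,
    show (x * β) ^ 2 * α ^ 3 = x ^ 2 * (α ^ 3 * β ^ 2) by ring]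
  exact Nat.mul_lt_mul_right hp

theorem card_lt_iff {V R : Subgroup G} :
    Nat.card R < Nat.card ↥⁅V, R⁆ * Nat.card ↥(R ⊓ Subgroup.centralizer (V : Set G)) ↔
      (Subgroup.centralizer (V : Set G)).relIndex R < Nat.card ↥⁅V, R⁆ := by
  have h1 := card_eq_relIndex_mul (inf_le_left : R ⊓ Subgroup.centralizer (V : Set G) ≤ R)
  rw [Subgroup.inf_relIndex_left] at h1
  rw [h1]
  exact Nat.mul_lt_mul_right Nat.card_pos

theorem eg_iff {T : Type u} [Group T] (f : T →* G) (hf : Function.Injective f) :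
    IsEGroup T ↔ EG f.range := by
  haveI : Finite T := Finite.of_injective f hf
  have hcen : ∀ (H K : Subgroup T), H ≤ Subgroup.centralizer (K : Set T) ↔
      H.map f ≤ Subgroup.centralizer (K.map f : Set G) := by
    intro H K
    rw [← Subgroup.commutator_eq_bot_iff_le_centralizer,
      ← Subgroup.commutator_eq_bot_iff_le_centralizer, ← Subgroup.map_commutator,
      Subgroup.map_eq_bot_iff_of_injective _ hf]
  have hinf : ∀ (H K : Subgroup T), (H ⊓ Subgroup.centralizer (K : Set T)).map f =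
      H.map f ⊓ Subgroup.centralizer (K.map f : Set G) := by
    intro H K
    ext x
    constructor
    · rintro ⟨h, ⟨hh, hc⟩, rfl⟩
      refine ⟨⟨h, hh, rfl⟩, Subgroup.mem_centralizer_iff.2 ?_⟩
      rintro _ ⟨k, hk, rfl⟩
      rw [← map_mul, ← map_mul, Subgroup.mem_centralizer_iff.1 hc k hk]
    · rintro ⟨⟨h, hh, rfl⟩, hc⟩
      refine ⟨h, ⟨hh, Subgroup.mem_centralizer_iff.2 fun k hk => hf ?_⟩, rfl⟩
      rw [map_mul, map_mul]
      exact Subgroup.mem_centralizer_iff.1 hc _ ⟨k, hk, rfl⟩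
  have hcard : ∀ H : Subgroup T, Nat.card ↥(H.map f) = Nat.card H := fun H =>
    Subgroup.card_map_of_injective hf
  have himg : ∀ V R : Subgroup T, ElImg (V.map f) (R.map f) ↔
      ⁅R, R⁆ ≤ Subgroup.centralizer (V : Set T) ∧ ∀ r ∈ R, r ^ 2 ∈ Subgroup.centralizer (V : Set T) := by
    intro V R
    rw [ElImg, ← Subgroup.map_commutator, ← hcen]
    refine and_congr Iff.rfl ⟨fun h r hr => ?_, fun h => ?_⟩
    · refine Subgroup.mem_centralizer_iff.2 fun v hv => hf ?_
      rw [map_mul, map_mul, map_pow]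
      exact Subgroup.mem_centralizer_iff.1 (h _ ⟨r, hr, rfl⟩) _ ⟨v, hv, rfl⟩
    · rintro _ ⟨r, hr, rfl⟩
      refine Subgroup.mem_centralizer_iff.2 ?_
      rintro _ ⟨v, hv, rfl⟩
      rw [← map_pow, ← map_mul, ← map_mul, Subgroup.mem_centralizer_iff.1 (h r hr) v hv]
  have hprop : ∀ V R : Subgroup T,
      ((Nat.card V) ^ 2 * (Nat.card ↥(R ⊓ Subgroup.centralizer (V : Set T))) ^ 3 >
          (Nat.card R) ^ 3 * (Nat.card ↥(V ⊓ Subgroup.centralizer (R : Set T))) ^ 2 ∧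
        Nat.card ↥⁅V, R⁆ * Nat.card ↥(R ⊓ Subgroup.centralizer (V : Set T)) > Nat.card R) ↔
      (Subgroup.centralizer (V.map f : Set G)).relIndex (R.map f) ^ 3 <
        (Subgroup.centralizer (R.map f : Set G)).relIndex (V.map f) ^ 2 ∧
      (Subgroup.centralizer (V.map f : Set G)).relIndex (R.map f) <
        Nat.card ↥⁅V.map f, R.map f⁆ := by
    intro V R
    rw [← relIndex_pow_lt_iff, ← card_lt_iff, ← Subgroup.map_commutator, ← hinf, ← hinf,
      hcard, hcard, hcard, hcard, hcard]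
  constructor
  · intro h V hV hn hel hp
    set V₀ := V.comap f
    have hVeq : V₀.map f = V := Subgroup.map_comap_eq_self hV
    have hn₀ : V₀.Normal := ⟨fun v hv t => by
      show f (t * v * t⁻¹) ∈ V
      rw [map_mul, map_mul, map_inv]
      exact (Subgroup.mem_normalizer_iff.1 (hn ⟨t, rfl⟩) (f v)).1 hv⟩
    have hel₀ : IsElementaryAbelian 2 V₀ := ⟨⟨⟨fun a b => Subtype.ext (hf (by
      simp only [Subgroup.coe_mul, map_mul]
      exact comm_el hel a.2 b.2))⟩⟩, fun v hv => hf (by rw [map_pow, map_one]; exact hel.2 _ hv)⟩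
    have h1 := h V₀ hn₀ hel₀ fun R hR1 hR2 hR3 => (hprop V₀ R).2 (by
      rw [hVeq]
      refine hp _ (Subgroup.map_le_range _ _) (hVeq ▸ (himg V₀ R).2 ⟨hR1, hR2⟩) ?_
      rwa [← hVeq, ← hcen])
    rw [Subgroup.le_centralizer_iff]
    intro v hv
    obtain ⟨v₀, hv₀, rfl⟩ := hVeq.symm ▸ hv
    refine Subgroup.mem_centralizer_iff.2 ?_
    rintro _ ⟨t, rfl⟩
    rw [← map_mul, ← map_mul, Subgroup.mem_center_iff.1 (h1 hv₀) t]
  · intro h V hV hel hp
    have h1 := h (V.map f) (Subgroup.map_le_range _ _) (by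
        rintro _ ⟨t, rfl⟩
        refine mem_normalizer_of_conj_mem ?_
        rintro _ ⟨v, hv, rfl⟩
        exact ⟨t * v * t⁻¹, hV.conj_mem v hv t, by simp⟩)
      (el_map f hel) fun R hR hi hnc => by
        obtain ⟨R₀, rfl⟩ : ∃ R₀ : Subgroup T, R₀.map f = R :=
          ⟨R.comap f, Subgroup.map_comap_eq_self hR⟩
        obtain ⟨i1, i2⟩ := (himg V R₀).1 hi
        exact (hprop V R₀).1 (hp R₀ i1 i2 fun hc => hnc ((hcen _ _).1 hc))
    intro v hv
    rw [Subgroup.mem_center_iff]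
    intro t
    refine hf ?_
    rw [map_mul, map_mul]
    exact (Subgroup.mem_centralizer_iff.1 (h1 ⟨t, rfl⟩) (f v) ⟨v, hv, rfl⟩).symm

end CfsgLib.LocalEven.TwoFactor
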