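import Cfsg.Agent.Lib.LocalEven.Factor.Chief

/-!
The case of an offending normal subgroup inside `O₂(X)`.
-/

set_option autoImplicit false
set_option linter.style.haveILetI false

universe u

namespace CfsgLib.LocalEven.TwoFactor

open Cfsg CfsgLib.LocalEven.S4W CfsgLib.Techniques
open scoped commutatorElement

variable {G : Type u} [Group G] [Finite G]

/-- An elementary abelian normal subgroup of `U` with the strong offender bound, not central. -/
structure Offended (U V : Subgroup G) : Prop where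
  le : V ≤ U
  norm : U ≤ Subgroup.normalizer (V : Set G)
  el : IsElementaryAbelian 2 V
  prop : PropV U V
  nc : ¬ U ≤ Subgroup.centralizer (V : Set G)

omit [Finite G] in
theorem relIndex_cj (g : G) (H K : Subgroup G) : (cj g H).relIndex (cj g K) = H.relIndex K :=
  Subgroup.relIndex_map_map_of_injective H K (MulAut.conj g).injective

theorem cj_centralizer' (g : G) (W : Subgroup G) :
    cj g (Subgroup.centralizer (W : Set G)) = Subgroup.centralizer (cj g W : Set G) :=
  (centralizer_cj g W).symm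

omit [Finite G] in
theorem cen_le {A B : Subgroup G} (h : A ≤ B) :
    Subgroup.centralizer (B : Set G) ≤ Subgroup.centralizer (A : Set G) :=
  Subgroup.centralizer_le (SetLike.coe_subset_coe.2 h)

theorem two_mul_le_of_lt {a b : ℕ} (ha : ∃ i, a = 2 ^ i) (hb : ∃ j, b = 2 ^ j) (h : a < b) :
    2 * a ≤ b := by
  obtain ⟨i, rfl⟩ := ha
  obtain ⟨j, rfl⟩ := hb
  rw [← pow_succ']
  exact Nat.pow_le_pow_right two_pos ((Nat.pow_lt_pow_iff_right (by norm_num : 1 < 2)).1 h)

theorem propV_cj {U Q V R : Subgroup G} (hp : PropV U V) (hQU : Q ≤ U) {g : G}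
    (hg : g ∈ Subgroup.normalizer (Q : Set G)) (hR : R ≤ Q) (hi : ElImg (cj g V) R)
    (hnc : ¬ R ≤ Subgroup.centralizer (cj g V : Set G)) :
    (Subgroup.centralizer (cj g V : Set G)).relIndex R ^ 3 <
      (Subgroup.centralizer (R : Set G)).relIndex (cj g V) ^ 2 := by
  set R' := cj g⁻¹ R with hR'
  have hRR : cj g R' = R := by rw [hR', ← cj_mul, mul_inv_cancel, cj_one]
  have hR'Q : R' ≤ Q :=
    (cj_mono hR).trans (mem_normalizer_iff_cj.1 (Subgroup.inv_mem _ hg)).le
  have hcen : ∀ x, x ∈ Subgroup.centralizer (cj g V : Set G) →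
      g⁻¹ * x * g ∈ Subgroup.centralizer (V : Set G) := fun x hx => by
    rw [← cj_centralizer'] at hx
    exact mem_cj.1 hx
  have hi' : ElImg V R' := by
    constructor
    · intro x hx
      have h1 : g * x * g⁻¹ ∈ Subgroup.centralizer (cj g V : Set G) := by
        refine hi.1 ?_
        rw [← hRR, ← cj_commutator]
        exact conj_mem_cj.2 hx
      simpa [mul_assoc] using hcen _ h1
    · intro r hr
      have h1 : g * r * g⁻¹ ∈ R := hRR.le (conj_mem_cj.2 hr)
      have h2 := hcen _ (hi.2 _ h1)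
      rw [conj_pow] at h2
      simpa [mul_assoc] using h2
  have hnc' : ¬ R' ≤ Subgroup.centralizer (V : Set G) := fun h => hnc (by
    rw [← hRR, ← cj_centralizer']
    exact cj_mono h)
  obtain ⟨h1, -⟩ := hp R' (hR'Q.trans hQU) hi' hnc'
  rwa [← relIndex_cj g, cj_centralizer', ← relIndex_cj g (Subgroup.centralizer (R' : Set G)),
    cj_centralizer', hRR] at h1

theorem relIndex_pow {S H K : Subgroup G} (hS : IsPGroup 2 S) (hK : K ≤ S) (n : ℕ) :
    ∃ i, H.relIndex K ^ n = 2 ^ i := by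
  obtain ⟨i, hi⟩ := CfsgLib.LocalEven.SzL2.exists_pow_relIndex (L := G) (H := H) (hS.to_le hK)
  exact ⟨i * n, by rw [hi, ← pow_mul]⟩

variable {S X U V : Subgroup G}

/-- The conjugates of `V` commute. -/
theorem conj_centralizes (c : Config S X U) (o : Offended U V) (hVQ : V ≤ pCoreOf 2 X) {g : G}
    (hg : g ∈ X) : cj g V ≤ Subgroup.centralizer (V : Set G) := by
  obtain ⟨hQX, hQ2, hXQ, -⟩ := coreTwo_spec X
  by_contra hnc
  have hgV : cj g V ≤ pCoreOf 2 X := (cj_mono hVQ).trans (mem_normalizer_iff_cj.1 (hXQ hg)).le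
  have hgV' : cj g⁻¹ V ≤ pCoreOf 2 X :=
    (cj_mono hVQ).trans (mem_normalizer_iff_cj.1 (hXQ (X.inv_mem hg))).le
  obtain ⟨h1, -⟩ := o.prop _ (hgV.trans c.coreLe) (elImg_of_el (el_map _ o.el)) hnc
  obtain ⟨h2, -⟩ := o.prop _ (hgV'.trans c.coreLe) (elImg_of_el (el_map _ o.el)) (fun h => hnc (by
    have h' : V ≤ Subgroup.centralizer (cj g⁻¹ V : Set G) := Subgroup.le_centralizer_iff.1 h
    have h'' := cj_mono (g := g) h'
    rwa [cj_centralizer', ← cj_mul, mul_inv_cancel, cj_one] at h''))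
  rw [← relIndex_cj g, cj_centralizer', ← cj_mul, mul_inv_cancel, cj_one,
    ← relIndex_cj g (Subgroup.centralizer (cj g⁻¹ V : Set G)), cj_centralizer', ← cj_mul,
    mul_inv_cancel, cj_one] at h2
  set r := (Subgroup.centralizer (V : Set G)).relIndex (cj g V)
  set x := (Subgroup.centralizer (cj g V : Set G)).relIndex V
  have hr : 0 < r := relIndex_pos _ _
  have hx : 0 < x := relIndex_pos _ _
  have h3 := Nat.mul_lt_mul_of_lt_of_lt h1 h2
  have h4 : x ^ 2 * r ^ 2 ≤ r ^ 3 * x ^ 3 := by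
    rw [mul_comm (x ^ 2)]
    exact Nat.mul_le_mul (Nat.pow_le_pow_right hr (by norm_num)) (Nat.pow_le_pow_right hx (by norm_num))
  omega

/-- The Chermak–Delgado measure of a subgroup on `W`. -/
noncomputable def meas (W P : Subgroup G) : ℕ :=
  Nat.card P * Nat.card ↥(W ⊓ Subgroup.centralizer (P : Set G))

theorem meas_supermodular {W : Subgroup G} (hW : W ≤ Subgroup.centralizer (W : Set G))
    (P₁ P₂ : Subgroup G) :
    meas W P₁ * meas W P₂ ≤ meas W (P₁ ⊔ P₂) * meas W (P₁ ⊓ P₂) := by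
  have h1 : Nat.card P₁ * Nat.card P₂ ≤ Nat.card ↥(P₁ ⊔ P₂) * Nat.card ↥(P₁ ⊓ P₂) := by
    have e1 := card_eq_relIndex_mul (inf_le_left : P₁ ⊓ P₂ ≤ P₁)
    have e2 := card_eq_relIndex_mul (le_sup_right : P₂ ≤ P₁ ⊔ P₂)
    rw [Subgroup.inf_relIndex_left] at e1
    rw [e1, e2]
    calc P₂.relIndex P₁ * Nat.card ↥(P₁ ⊓ P₂) * Nat.card P₂
        = P₂.relIndex P₁ * Nat.card P₂ * Nat.card ↥(P₁ ⊓ P₂) := by ring
      _ ≤ _ := Nat.mul_le_mul_right _ (Nat.mul_le_mul_right _
          (Subgroup.relIndex_le_of_le_right le_sup_left (relIndex_pos _ _).ne'))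
  set C₁ := W ⊓ Subgroup.centralizer (P₁ : Set G)
  set C₂ := W ⊓ Subgroup.centralizer (P₂ : Set G)
  have h2 : Nat.card C₁ * Nat.card C₂ ≤
      Nat.card ↥(W ⊓ Subgroup.centralizer ((P₁ ⊔ P₂ : Subgroup G) : Set G)) *
        Nat.card ↥(W ⊓ Subgroup.centralizer ((P₁ ⊓ P₂ : Subgroup G) : Set G)) := by
    rw [← card_sup_mul ((inf_le_left.trans hW).trans ((cen_le inf_le_left).trans
      (Subgroup.centralizer_le_normalizer _)) : C₁ ≤ Subgroup.normalizer (C₂ : Set G)), mul_comm]
    refine Nat.mul_le_mul (Subgroup.card_le_of_le (le_inf (inf_le_left.trans inf_le_left) ?_))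
      (Subgroup.card_le_of_le (sup_le (inf_le_inf_left _ (cen_le inf_le_left))
        (inf_le_inf_left _ (cen_le inf_le_right))))
    rw [Subgroup.le_centralizer_iff]
    exact sup_le (Subgroup.le_centralizer_iff.1 (inf_le_left.trans inf_le_right))
      (Subgroup.le_centralizer_iff.1 (inf_le_right.trans inf_le_right))
  calc meas W P₁ * meas W P₂ = (Nat.card P₁ * Nat.card P₂) * (Nat.card C₁ * Nat.card C₂) := by
        rw [meas, meas]; ring
    _ ≤ _ := Nat.mul_le_mul h1 h2
    _ = _ := by rw [meas, meas]; ring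

theorem meas_max {A C W : Subgroup G} (hA : MaxEl S A) (hW : IsElementaryAbelian 2 W) (hWS : W ≤ S)
    (hCW : C ≤ Subgroup.centralizer (W : Set G)) (hAC : A ≤ Subgroup.normalizer (C : Set G)) :
    Nat.card C * Nat.card W ≤ meas W (A ⊔ C) ∧
      ∀ A₀ ≤ A, A ⊓ C ≤ A₀ → meas W (A₀ ⊔ C) ≤ meas W (A ⊔ C) := by
  have hfix : ∀ B : Subgroup G, W ⊓ Subgroup.centralizer ((B ⊔ C : Subgroup G) : Set G) =
      W ⊓ Subgroup.centralizer (B : Set G) := by
    intro B
    refine le_antisymm (inf_le_inf_left _ (cen_le le_sup_left)) (le_inf inf_le_left ?_)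
    rw [Subgroup.le_centralizer_iff]
    exact sup_le (Subgroup.le_centralizer_iff.1 inf_le_right)
      (hCW.trans (cen_le inf_le_left))
  have hAab := Subgroup.le_centralizer_iff_isMulCommutative.2 hA.el.1
  have hA' := card_sup_mul hAC
  constructor
  · have h1 := card_le_of_el hA (inf_le_left : A ⊓ C ≤ A) hW hWS (inf_le_right.trans hCW)
    have h2 : Nat.card ↥(A ⊓ C ⊓ W) ≤ Nat.card ↥(W ⊓ Subgroup.centralizer (A : Set G)) :=
      Subgroup.card_le_of_le (le_inf inf_le_right ((inf_le_left.trans inf_le_left).trans hAab))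
    refine Nat.le_of_mul_le_mul_right ?_ (Nat.card_pos (α := ↥(A ⊓ C)))
    calc Nat.card C * Nat.card W * Nat.card ↥(A ⊓ C)
        = Nat.card C * (Nat.card ↥(A ⊓ C) * Nat.card W) := by ring
      _ ≤ Nat.card C * (Nat.card A * Nat.card ↥(W ⊓ Subgroup.centralizer (A : Set G))) :=
          Nat.mul_le_mul_left _ (h1.trans (Nat.mul_le_mul_left _ h2))
      _ = (Nat.card A * Nat.card C) * Nat.card ↥(W ⊓ Subgroup.centralizer (A : Set G)) := by ring
      _ = _ := by rw [← hA', meas, hfix]; ring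
  · intro A₀ hA₀ hle
    have hA₀' := card_sup_mul (hA₀.trans hAC)
    rw [show A₀ ⊓ C = A ⊓ C from le_antisymm (inf_le_inf_right _ hA₀) (le_inf hle inf_le_right)]
      at hA₀'
    set M := W ⊓ Subgroup.centralizer (A₀ : Set G)
    have h1 := card_le_of_el hA hA₀ (el_mono hW inf_le_left : IsElementaryAbelian 2 M)
      (inf_le_left.trans hWS) (Subgroup.le_centralizer_iff.1 inf_le_right)
    have h2 : Nat.card ↥(A₀ ⊓ M) ≤ Nat.card ↥(W ⊓ Subgroup.centralizer (A : Set G)) :=
      Subgroup.card_le_of_le (le_inf (inf_le_right.trans inf_le_left)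
        ((inf_le_left.trans hA₀).trans hAab))
    refine Nat.le_of_mul_le_mul_right ?_ (Nat.card_pos (α := ↥(A ⊓ C)))
    calc meas W (A₀ ⊔ C) * Nat.card ↥(A ⊓ C)
        = Nat.card ↥(A₀ ⊔ C) * Nat.card ↥(A ⊓ C) * Nat.card M := by rw [meas, hfix]; ring
      _ = Nat.card C * (Nat.card A₀ * Nat.card M) := by rw [hA₀']; ring
      _ ≤ Nat.card C * (Nat.card A * Nat.card ↥(W ⊓ Subgroup.centralizer (A : Set G))) :=
          Nat.mul_le_mul_left _ (h1.trans (Nat.mul_le_mul_left _ h2))
      _ = (Nat.card A * Nat.card C) * Nat.card ↥(W ⊓ Subgroup.centralizer (A : Set G)) := by ring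
      _ = _ := by rw [← hA', meas, hfix]; ring

/-- An odd element centralising `C_W(Q)` and commuting with the action of `Q` centralises `W`. -/
theorem centralizes_of_commutes {Q W : Subgroup G} (hQ : IsPGroup 2 Q) (hWQ : W ≤ Q)
    (hW : IsElementaryAbelian 2 W) (hQW : Q ≤ Subgroup.normalizer (W : Set G)) {y : G}
    (hy : Odd (orderOf y)) (hyW : y ∈ Subgroup.normalizer (W : Set G))
    (hcomm : ∀ q ∈ Q, ⁅y, q⁆ ∈ Subgroup.centralizer (W : Set G))
    (hfix : y ∈ Subgroup.centralizer ((W ⊓ Subgroup.centralizer (Q : Set G) : Subgroup G) : Set G)) :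
    y ∈ Subgroup.centralizer (W : Set G) := by
  by_contra hne
  have hconj : ∀ q ∈ Q, ∀ v ∈ W, q * (y * v * y⁻¹) * q⁻¹ = y * (q * v * q⁻¹) * y⁻¹ := by
    intro q hq v hv
    have h1 := Subgroup.mem_centralizer_iff.1 (hcomm q hq) (q * (y * v * y⁻¹) * q⁻¹)
      ((Subgroup.mem_normalizer_iff.1 (hQW hq) _).1 ((Subgroup.mem_normalizer_iff.1 hyW v).1 hv))
    rw [commutatorElement_def] at h1
    calc q * (y * v * y⁻¹) * q⁻¹
        = (y * q * y⁻¹ * q⁻¹) * (q * (y * v * y⁻¹) * q⁻¹) * (y * q * y⁻¹ * q⁻¹)⁻¹ := by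
          rw [← h1, mul_inv_cancel_right]
      _ = _ := by group
  set F := W ⊓ Subgroup.centralizer ({y} : Set G)
  have hFW : F < W := lt_of_le_of_ne inf_le_left fun h => hne (by
    refine Subgroup.mem_centralizer_iff.2 fun v hv => ?_
    rw [← h] at hv
    exact Subgroup.mem_centralizer_singleton_iff.1 hv.2)
  have hQF : Q ≤ Subgroup.normalizer (F : Set G) := le_normalizer_of_conj fun q hq v hv => by
    refine ⟨(Subgroup.mem_normalizer_iff.1 (hQW hq) v).1 hv.1,
      Subgroup.mem_centralizer_singleton_iff.2 ?_⟩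
    have h1 : y * v * y⁻¹ = v := by
      rw [← Subgroup.mem_centralizer_singleton_iff.1 hv.2, mul_inv_cancel_right]
    have h2 := hconj q hq v hv.1
    rw [h1] at h2
    rw [h2]
    conv_rhs => rw [h2.symm]
    calc y * (q * v * q⁻¹) * y⁻¹ * y = y * (q * v * q⁻¹) := by group
      _ = _ := rfl
  obtain ⟨w, hwW, hwF, hwc, -⟩ := exists_central_step hQ hFW hWQ hQW hQF
  set i := y * w * y⁻¹ * w⁻¹ with hi
  have hywW : y * w * y⁻¹ ∈ W := (Subgroup.mem_normalizer_iff.1 hyW w).1 hwW
  have hiW : i ∈ W := W.mul_mem hywW (W.inv_mem hwW)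
  have hiC : i ∈ Subgroup.centralizer (Q : Set G) := by
    refine Subgroup.mem_centralizer_iff.2 fun q hq => mul_inv_eq_iff_eq_mul.1 ?_
    have hf := hwc q hq
    rw [commutatorElement_def] at hf
    set f := q * w * q⁻¹ * w⁻¹
    have hfy : y * f * y⁻¹ = f := by
      rw [← Subgroup.mem_centralizer_singleton_iff.1 hf.2, mul_inv_cancel_right]
    have e1 : q * i * q⁻¹ = q * (y * w * y⁻¹) * q⁻¹ * (q * w * q⁻¹)⁻¹ := by rw [hi]; group
    rw [e1, hconj q hq w hwW, show q * w * q⁻¹ = f * w from by simp only [f]; group, mul_inv_rev]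
    calc y * (f * w) * y⁻¹ * (w⁻¹ * f⁻¹) = (y * f * y⁻¹) * i * f⁻¹ := by rw [hi]; group
      _ = f * i * f⁻¹ := by rw [hfy]
      _ = i := by rw [comm_el hW hf.1 hiW, mul_inv_cancel_right]
  have hyi : y * i * y⁻¹ = i := by
    rw [← Subgroup.mem_centralizer_iff.1 hfix i ⟨hiW, hiC⟩, mul_inv_cancel_right]
  have h1 : i = 1 := eq_one_of_chain hy hyi (v := w) (by rw [hi]; group) hQ (hWQ hiW)
  exact hwF ⟨hwW, Subgroup.mem_centralizer_singleton_iff.2
    (mul_inv_eq_iff_eq_mul.1 (mul_inv_eq_one.1 h1)).symm⟩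

/-- The conjugates of `V` in the join. -/
theorem le_centralizer_iSup_cj {R Z : Subgroup G} (hXR : X ≤ Subgroup.normalizer (R : Set G))
    (h : R ≤ Subgroup.centralizer (Z : Set G)) :
    R ≤ Subgroup.centralizer ((⨆ g : X, cj (g : G) Z : Subgroup G) : Set G) := by
  rw [Subgroup.le_centralizer_iff]
  refine iSup_le fun g => Subgroup.le_centralizer_iff.1 ?_
  rw [← cj_centralizer', ← mem_normalizer_iff_cj.1 (hXR g.2)]
  exact cj_mono h

theorem iSup_cj_normal (Z : Subgroup G) :
    X ≤ Subgroup.normalizer ((⨆ g : X, cj (g : G) Z : Subgroup G) : Set G) := by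
  set W := ⨆ g : X, cj (g : G) Z with hW
  refine le_normalizer_of_conj fun x hx v hv => ?_
  suffices h : W ≤ W.comap (MulAut.conj x).toMonoidHom from h hv
  refine iSup_le fun g w hw => ?_
  have h1 : x * w * x⁻¹ ∈ cj ((⟨x, hx⟩ * g : X) : G) Z := by
    rw [Subgroup.coe_mul, cj_mul]
    exact conj_mem_cj.2 hw
  exact le_iSup (fun g : X => cj (g : G) Z) (⟨x, hx⟩ * g) h1

theorem el_iSup_cj {Z : Subgroup G} (hZ : IsElementaryAbelian 2 Z)
    (h : ∀ g ∈ X, cj g Z ≤ Subgroup.centralizer (Z : Set G)) :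
    IsElementaryAbelian 2 (⨆ g : X, cj (g : G) Z) := by
  rw [Subgroup.iSup_eq_closure]
  refine el_closure ?_ ?_
  · intro x hx
    obtain ⟨g, hg⟩ := Set.mem_iUnion.1 hx
    exact (el_map (MulAut.conj (g : G)).toMonoidHom hZ).2 x hg
  · intro x hx y hy
    obtain ⟨g, hg⟩ := Set.mem_iUnion.1 hx
    obtain ⟨g', hg'⟩ := Set.mem_iUnion.1 hy
    have h1 : cj (g' : G) Z ≤ Subgroup.centralizer (cj (g : G) Z : Set G) := by
      have h2 := cj_mono (g := (g : G)) (h _ (X.mul_mem (X.inv_mem g.2) g'.2))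
      rwa [cj_centralizer', ← cj_mul, mul_inv_cancel_left] at h2
    exact Subgroup.mem_centralizer_iff.1 (h1 hg') x hg

/-- Accumulating the offender bound over conjugates of `V`. -/
theorem greedy {Q : Subgroup G} (hS : IsPGroup 2 S) (hp : PropV U V) (hQU : Q ≤ U) (hQS : Q ≤ S)
    (hXQ : X ≤ Subgroup.normalizer (Q : Set G)) (hVQ : V ≤ Q) {H : Subgroup G} (hH : H ≤ Q)
    (hW : IsElementaryAbelian 2 (⨆ g : X, cj (g : G) V))
    (hel : ElImg (⨆ g : X, cj (g : G) V) H)
    (h1 : 1 < (Subgroup.centralizer ((⨆ g : X, cj (g : G) V : Subgroup G) : Set G)).relIndex H) :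
    2 * (Subgroup.centralizer ((⨆ g : X, cj (g : G) V : Subgroup G) : Set G)).relIndex H ^ 3 ≤
      (Subgroup.centralizer (H : Set G)).relIndex (⨆ g : X, cj (g : G) V) ^ 2 := by
  classical
  haveI : Fintype X := Fintype.ofFinite _
  set W := ⨆ g : X, cj (g : G) V with hWdef
  suffices H' : ∀ s : Finset X,
      (Subgroup.centralizer ((s.sup fun g : X => cj (g : G) V : Subgroup G) : Set G)).relIndex H = 1 ∨
      2 * (Subgroup.centralizer ((s.sup fun g : X => cj (g : G) V : Subgroup G) : Set G)).relIndex H ^ 3 ≤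
        (Subgroup.centralizer (H : Set G)).relIndex (s.sup fun g : X => cj (g : G) V) ^ 2 by
    have h2 := H' Finset.univ
    rw [Finset.sup_univ_eq_iSup, ← hWdef] at h2
    exact h2.resolve_left (by omega)
  intro s
  induction s using Finset.induction with
  | empty =>
    left
    rw [Subgroup.relIndex_eq_one, Finset.sup_empty, Subgroup.le_centralizer_iff]
    exact bot_le
  | @insert g s hgs ih =>
    rw [Finset.sup_insert]
    set V₂ := cj (g : G) V with hV₂
    set Ws := s.sup fun g : X => cj (g : G) V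
    have hV₂W : V₂ ≤ W := le_iSup (fun g : X => cj (g : G) V) g
    have hWsW : Ws ≤ W := Finset.sup_le fun g _ => le_iSup (fun g : X => cj (g : G) V) g
    set Hs := H ⊓ Subgroup.centralizer (Ws : Set G) with hHs
    have hr : (Subgroup.centralizer ((V₂ ⊔ Ws : Subgroup G) : Set G)).relIndex H =
        (Subgroup.centralizer (V₂ : Set G)).relIndex Hs *
          (Subgroup.centralizer (Ws : Set G)).relIndex H := by
      have e : H ⊓ Subgroup.centralizer ((V₂ ⊔ Ws : Subgroup G) : Set G) =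
          Hs ⊓ Subgroup.centralizer (V₂ : Set G) := by
        refine le_antisymm (le_inf (inf_le_inf_left _ (cen_le le_sup_right))
          (inf_le_right.trans (cen_le le_sup_left)))
          (le_inf (inf_le_left.trans inf_le_left) ?_)
        rw [Subgroup.le_centralizer_iff]
        exact sup_le (Subgroup.le_centralizer_iff.1 inf_le_right)
          (Subgroup.le_centralizer_iff.1 (inf_le_left.trans inf_le_right))
      rw [← Subgroup.inf_relIndex_left H, e,
        ← Subgroup.inf_relIndex_left Hs (Subgroup.centralizer (V₂ : Set G)),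
        ← Subgroup.inf_relIndex_left H (Subgroup.centralizer (Ws : Set G))]
      exact (Subgroup.relIndex_mul_relIndex _ _ _ inf_le_left inf_le_left).symm
    have hx : (Subgroup.centralizer (Hs : Set G)).relIndex V₂ *
        (Subgroup.centralizer (H : Set G)).relIndex Ws ≤
          (Subgroup.centralizer (H : Set G)).relIndex (V₂ ⊔ Ws) := by
      set Wn := V₂ ⊔ Ws
      set F := Wn ⊓ Subgroup.centralizer (H : Set G)
      set F' := Wn ⊓ Subgroup.centralizer (Hs : Set G)
      have hFF : F ≤ F' := inf_le_inf_left _ (cen_le inf_le_left)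
      have hWsF : Ws ≤ F' := le_inf le_sup_right (Subgroup.le_centralizer_iff.1 inf_le_right)
      have e1 : F.relIndex Wn = (Subgroup.centralizer (H : Set G)).relIndex Wn :=
        Subgroup.inf_relIndex_left Wn _
      have e2 := Subgroup.relIndex_mul_relIndex F F' Wn hFF inf_le_left
      have e3 : (Subgroup.centralizer (H : Set G)).relIndex Ws ≤ F.relIndex F' := by
        calc (Subgroup.centralizer (H : Set G)).relIndex Ws = F.relIndex Ws := by
              rw [← Subgroup.inf_relIndex_left Ws, ← Subgroup.inf_relIndex_left Ws F]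
              congr 1
              rw [← inf_assoc, inf_eq_left.2 (le_sup_right : Ws ≤ Wn)]
          _ ≤ _ := Subgroup.relIndex_le_of_le_right hWsF (relIndex_pos _ _).ne'
      have e4 : (Subgroup.centralizer (Hs : Set G)).relIndex V₂ ≤ F'.relIndex Wn := by
        rw [show F'.relIndex Wn = (Subgroup.centralizer (Hs : Set G)).relIndex Wn from
          Subgroup.inf_relIndex_left Wn _]
        exact Subgroup.relIndex_le_of_le_right le_sup_left (relIndex_pos _ _).ne'
      rw [← e1, ← e2, mul_comm (F.relIndex F')]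
      exact Nat.mul_le_mul e4 e3
    rcases eq_or_ne ((Subgroup.centralizer (V₂ : Set G)).relIndex Hs) 1 with hr1 | hr1
    · rw [hr, hr1, one_mul]
      refine ih.imp id fun h2 => h2.trans (Nat.pow_le_pow_left ?_ 2)
      exact Subgroup.relIndex_le_of_le_right le_sup_right (relIndex_pos _ _).ne'
    · right
      have hHsel : ElImg V₂ Hs := by
        refine ⟨(Subgroup.commutator_mono inf_le_left inf_le_left).trans
          (hel.1.trans (cen_le hV₂W)), fun r hr => cen_le hV₂W (hel.2 r hr.1)⟩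
      have h3 := propV_cj hp hQU (hXQ g.2) (inf_le_left.trans hH) hHsel
        (fun h => hr1 (Subgroup.relIndex_eq_one.2 h))
      rw [← hV₂] at h3
      have hV₂S : V₂ ≤ S :=
        ((cj_mono hVQ).trans (mem_normalizer_iff_cj.1 (hXQ g.2)).le).trans hQS
      have h4 := two_mul_le_of_lt (relIndex_pow hS ((inf_le_left.trans hH).trans hQS) 3)
        (relIndex_pow hS hV₂S 2) h3
      rw [hr, mul_pow]
      refine le_trans ?_ (Nat.pow_le_pow_left hx 2)
      rw [mul_pow, ← mul_assoc]
      refine Nat.mul_le_mul h4 ?_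
      rcases ih with h5 | h5
      · rw [h5, one_pow]
        exact Nat.one_le_pow _ _ (relIndex_pos _ _)
      · exact le_trans (by omega) h5

/-- The case `V ≤ O₂(X)`: the odd elements centralise all the conjugates of `V`. -/
theorem odd_centralizes_of_le_core (c : Reduced S X U) (o : Offended U V) (hVQ : V ≤ pCoreOf 2 X) :
    ∀ y ∈ X, Odd (orderOf y) → y ∈ Subgroup.centralizer (V : Set G) := by
  classical
  obtain ⟨hQX, hQ2, hXQ, -⟩ := coreTwo_spec X
  set Q := pCoreOf 2 X with hQdef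
  have hQU : Q ≤ U := c.coreLe
  have hQS : Q ≤ S := hQU.trans c.hUS
  set W := ⨆ g : X, cj (g : G) V with hWdef
  have hWel : IsElementaryAbelian 2 W :=
    el_iSup_cj o.el fun g hg => conj_centralizes c.toConfig o hVQ hg
  have hVW : V ≤ W := le_trans (le_of_eq (cj_one V).symm) (le_iSup (fun g : X => cj (g : G) V) 1)
  have hWQ : W ≤ Q := iSup_le fun g => (cj_mono hVQ).trans (mem_normalizer_iff_cj.1 (hXQ g.2)).le
  have hXW : X ≤ Subgroup.normalizer (W : Set G) := iSup_cj_normal V
  set CW := Subgroup.centralizer (W : Set G) with hCW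
  rcases c.dicho _ inf_le_left (le_normalizer_self_inf (le_normalizer_centralizer hXW)) with hd | hd
  · exact fun y hy ho => cen_le hVW (hd y hy ho).2
  exfalso
  set Cq := Q ⊓ CW with hCq
  have hUK : ∀ z ∈ U, z ∈ CW → z ∈ Cq := fun z hz hz' => ⟨hd ⟨hz, c.syl.le hz, hz'⟩, hz'⟩
  have hXC : X ≤ Subgroup.normalizer (Cq : Set G) :=
    le_normalizer_of_le_inf hXQ (le_normalizer_centralizer hXW)
  obtain ⟨A, hA, hAQ⟩ : ∃ A, MaxEl S A ∧ ¬ A ≤ Q := by
    by_contra h
    push Not at h
    exact c.notJ (sSup_le fun A hA => h A hA)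
  have hAU : A ≤ U := hA.le_Jel.trans c.jel
  have hodd : ∃ y ∈ X, Odd (orderOf y) ∧ ∃ q ∈ Q, ⁅y, q⁆ ∉ Cq := by
    by_contra hcon
    push Not at hcon
    have hall : ∀ y ∈ X, Odd (orderOf y) → y ∈ CW := fun y hy ho =>
      centralizes_of_commutes hQ2 hWQ hWel (hQX.trans hXW) ho (hXW hy)
        (fun q hq => (hcon y hy ho q hq).2)
        (cen_le (inf_le_inf_right _ hWQ) (c.odd_center y hy ho))
    have hXV : X ≤ Subgroup.normalizer (V : Set G) := le_of_syl_of_odd c.syl o.norm fun y hy ho =>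
      Subgroup.centralizer_le_normalizer _ (cen_le hVW (hall y hy ho))
    have hWV : W ≤ V := iSup_le fun g => (mem_normalizer_iff_cj.1 (hXV g.2)).le
    exact hAQ fun a ha => (hd ⟨hAU ha, c.syl.le (hAU ha), cen_le hWV
      (maxEl_le_centralizer_of_propV hA hAU o.el (o.le.trans c.hUS) o.prop ha)⟩)
  obtain ⟨D, D₁, hs⟩ := exists_section hQX hQ2 hXQ hXC inf_le_left hodd
  rw [hQdef] at hs
  have hDQ : D ≤ Q := hs.le_Q
  have hD₁Q : D₁ ≤ Q := hs.le.trans hDQ
  set R := ⁅D, A⁆ with hR
  have hAX : A ≤ X := hAU.trans c.syl.le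
  have hAD : A ≤ Subgroup.normalizer (D : Set G) := hAX.trans hs.norm
  have hRD : R ≤ D := Subgroup.le_normalizer_iff_commutator_le_left.1 hAD
  have hAV : A ≤ Subgroup.centralizer (V : Set G) :=
    maxEl_le_centralizer_of_propV hA hAU o.el (o.le.trans c.hUS) o.prop
  have hRV : R ≤ Subgroup.centralizer (V : Set G) := by
    rw [hR, Subgroup.commutator_le]
    intro d hd' a ha
    have h1 : d * a * d⁻¹ ∈ Subgroup.centralizer (V : Set G) :=
      (Subgroup.mem_normalizer_iff.1
        (le_normalizer_centralizer o.norm (hQU (hDQ hd'))) a).1 (hAV ha)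
    rw [commutatorElement_def]
    exact Subgroup.mul_mem _ h1 (Subgroup.inv_mem _ (hAV ha))
  set H := (A ⊓ Q) ⊔ R with hH
  have hHQ : H ≤ Q := sup_le inf_le_right (hRD.trans hDQ)
  have hHV : H ≤ Subgroup.centralizer (V : Set G) := sup_le (inf_le_left.trans hAV) hRV
  -- `D₁ ∩ C(V)` centralises `W`
  have hD₁V : D₁ ⊓ Subgroup.centralizer (V : Set G) ≤ CW := by
    refine le_centralizer_iSup_cj (X := X) ?_ inf_le_right
    refine le_of_syl_of_odd c.syl ?_ fun y hy ho =>
      CfsgLib.LocalEven.mem_normalizer_of_conj_mem fun z hz => ?_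
    · exact fun u hu => le_normalizer_of_le_inf (c.syl.le.trans hs.norm₁)
        (le_normalizer_centralizer o.norm) hu
    · have h1 := hs.triv y hy ho z hz.1
      rw [commutatorElement_def] at h1
      have e : y * z * y⁻¹ = (y * z * y⁻¹ * z⁻¹) * z := by group
      rw [e]
      exact ⟨D₁.mul_mem (hs.bot_le h1) hz.1,
        Subgroup.mul_mem _ (cen_le hVW h1.2) hz.2⟩
  have hHN : H ≤ Subgroup.normalizer (D₁ : Set G) := (hHQ.trans hQX).trans hs.norm₁
  have himg : IsElementaryAbelian 2 (sectImg D₁ H) := by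
    rw [sectImg, hH, Subgroup.subgroupOf_sup (inf_le_right.trans (hQX.trans hs.norm₁))
      ((hRD.trans hDQ).trans (hQX.trans hs.norm₁)), Subgroup.map_sup]
    refine el_sup (el_sectImg (inf_le_right.trans (hQX.trans hs.norm₁)) (fun a ha b hb => by
        rw [commutatorElement_eq_one_iff_mul_comm.2 (comm_el hA.el ha.1 hb.1)]
        exact D₁.one_mem) fun a ha => by rw [hA.el.2 a ha.1]; exact D₁.one_mem)
      (el_sectImg ((hRD.trans hDQ).trans (hQX.trans hs.norm₁))
        (fun a ha b hb => hs.comm a (hDQ (hRD ha)) b (hRD hb)) fun a ha => hs.sq a (hRD ha)) ?_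
    rintro _ ⟨a, ha, rfl⟩
    refine Subgroup.mem_centralizer_iff.2 ?_
    rintro _ ⟨b, hb, rfl⟩
    refine (commutatorElement_eq_one_iff_mul_comm.1 ?_).symm
    rw [← map_commutatorElement, sect_mk_eq_one]
    exact hs.comm _ ha.2 _ (hRD hb)
  have hHel : ElImg W H := by
    constructor
    · rw [Subgroup.commutator_le]
      intro a ha b hb
      refine hD₁V ⟨?_, ?_⟩
      · refine (sect_mk_eq_one ⁅(⟨a, hHN ha⟩ : ↥(Subgroup.normalizer (D₁ : Set G))), ⟨b, hHN hb⟩⁆).1 ?_
        rw [map_commutatorElement, commutatorElement_eq_one_iff_mul_comm]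
        exact comm_el himg ⟨_, ha, rfl⟩ ⟨_, hb, rfl⟩
      · rw [commutatorElement_def]
        exact Subgroup.mul_mem _ (Subgroup.mul_mem _ (Subgroup.mul_mem _ (hHV ha) (hHV hb))
          (Subgroup.inv_mem _ (hHV ha))) (Subgroup.inv_mem _ (hHV hb))
    · intro a ha
      refine hD₁V ⟨?_, Subgroup.pow_mem _ (hHV ha) 2⟩
      refine (sect_mk_eq_one ((⟨a, hHN ha⟩ : ↥(Subgroup.normalizer (D₁ : Set G))) ^ 2)).1 ?_
      rw [map_pow]
      exact himg.2 _ ⟨_, ha, rfl⟩
  -- the bound on `D / D₁`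
  set a := Q.relIndex A with hadef
  have ha1 : 1 < a := by
    have h0 : 0 < a := relIndex_pos _ _
    have h1 : a ≠ 1 := fun h => hAQ (Subgroup.relIndex_eq_one.1 h)
    omega
  have hAN : A ≤ Subgroup.normalizer (D₁ : Set G) := hAX.trans hs.norm₁
  have hAel : ElImg (sectImg D₁ D) (sectImg D₁ A) :=
    elImg_of_el (el_sectImg hAN (fun b hb b' hb' => by
      rw [commutatorElement_eq_one_iff_mul_comm.2 (comm_el hA.el hb hb')]; exact D₁.one_mem)
      fun b hb => by rw [hA.el.2 b hb]; exact D₁.one_mem)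
  have hbound := (mod_bound (R := sectImg D₁ A) (free_sect c.free) (hs.comp_img c) hs.el_img
    hs.img_le_normalizer (hs.red c) (Subgroup.map_mono fun z (hz : (z : G) ∈ A) => hAX hz) hAel).2
  have hcomm : Nat.card ↥⁅sectImg D₁ D, sectImg D₁ A⁆ = D₁.relIndex R := by
    have hRN : R ≤ Subgroup.normalizer (D₁ : Set G) := hRD.trans hs.sub_norm
    have e : ⁅sectImg D₁ D, sectImg D₁ A⁆ = sectImg D₁ R := by
      rw [sectImg, sectImg, sectImg, ← Subgroup.map_commutator]
      congr 1
      refine Subgroup.map_injective (Subgroup.subtype_injective _) ?_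
      rw [Subgroup.map_commutator, Subgroup.map_subgroupOf_eq_of_le hs.sub_norm,
        Subgroup.map_subgroupOf_eq_of_le hAN, Subgroup.map_subgroupOf_eq_of_le hRN]
    rw [e, sectImg, ← Subgroup.relIndex_ker, QuotientGroup.ker_mk',
      Subgroup.relIndex_subgroupOf hRN]
  have hcent : (Subgroup.centralizer (sectImg D₁ D : Set _)).relIndex (sectImg D₁ A) = a := by
    show Subgroup.relIndex _ (Subgroup.map (QuotientGroup.mk' _)
      (A.subgroupOf (Subgroup.normalizer (D₁ : Set G)))) = a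
    rw [← Subgroup.relIndex_comap]
    have e : (Subgroup.centralizer (sectImg D₁ D : Set _)).comap
        (QuotientGroup.mk' (D₁.subgroupOf (Subgroup.normalizer (D₁ : Set G)))) =
        (sectCent D D₁).subgroupOf (Subgroup.normalizer (D₁ : Set G)) := by
      ext g
      exact hs.mem_cent_img g
    rw [e, Subgroup.relIndex_subgroupOf hAN, hadef, ← Subgroup.inf_relIndex_left A,
      ← Subgroup.inf_relIndex_left A Q]
    refine congrArg (fun K : Subgroup G => K.relIndex A) (le_antisymm (le_inf inf_le_left ?_)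
      (le_inf inf_le_left (inf_le_right.trans hs.core_le)))
    exact fun z hz => hs.inf_le c ⟨hAU hz.1, hAX hz.1, hz.2⟩
  rw [hcomm, hcent] at hbound
  set hb := CW.relIndex H with hbdef
  have hab : a ^ 2 ≤ hb := by
    refine hbound.trans (le_trans ?_
      (Subgroup.relIndex_le_of_le_right (le_sup_right : R ≤ H) (relIndex_pos _ _).ne'))
    rw [← Subgroup.inf_relIndex_left R CW]
    refine Subgroup.relIndex_le_of_le_left (fun z hz => hs.bot_le (hUK z ?_ hz.2)) (relIndex_pos _ _).ne'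
    exact hQU (hDQ (hRD hz.1))
  have hgreedy := greedy c.hS o.prop hQU hQS hXQ hVQ hHQ hWel hHel
    (lt_of_lt_of_le (lt_of_lt_of_le ha1 (Nat.le_self_pow two_ne_zero a)) hab)
  rw [← hWdef, ← hCW, ← hbdef] at hgreedy
  -- the measure
  haveI : Fintype D := Fintype.ofFinite _
  have hCqW : Cq ≤ Subgroup.centralizer (W : Set G) := inf_le_right
  have hcjA : ∀ d ∈ D, MaxEl S (cj d A) := fun d hd' => hA.map
    (((cj_mono hAU).trans (cj_of_mem (hQU (hDQ hd'))).le).trans c.hUS)
  have hWS : W ≤ S := hWQ.trans hQS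
  have hmeas : ∀ s : Finset D,
      Nat.card Cq * Nat.card W ≤ meas W ((A ⊔ Cq) ⊔ s.sup fun d : D => cj (d : G) A) := by
    intro s
    induction s using Finset.induction with
    | empty =>
      rw [Finset.sup_empty, sup_bot_eq]
      exact (meas_max hA hWel hWS hCqW (hAX.trans hXC)).1
    | @insert d s hds ih =>
      rw [Finset.sup_insert]
      set P₁ := (A ⊔ Cq) ⊔ s.sup fun d : D => cj (d : G) A
      set A' := cj (d : G) A
      have hA' := hcjA d d.2
      have hA'C : A' ≤ Subgroup.normalizer (Cq : Set G) :=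
        ((cj_mono hAU).trans (cj_of_mem (hQU (hDQ d.2))).le).trans (c.syl.le.trans hXC)
      obtain ⟨h1, h2⟩ := meas_max hA' hWel hWS hCqW hA'C
      have hCP : Cq ≤ P₁ := le_sup_of_le_left le_sup_right
      have e : P₁ ⊓ (A' ⊔ Cq) = (A' ⊓ P₁) ⊔ Cq := by
        refine le_antisymm ?_ (le_inf (sup_le inf_le_right hCP)
          (sup_le_sup_right inf_le_left _))
        rintro z ⟨hz1, hz2⟩
        obtain ⟨b, hb', q, hq, rfl⟩ := CfsgLib.LocalEven.SzL2.exists_mul_of_mem_sup hA'C hz2
        refine Subgroup.mul_mem_sup ⟨hb', ?_⟩ hq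
        have := P₁.mul_mem hz1 (P₁.inv_mem (hCP hq))
        rwa [mul_inv_cancel_right] at this
      have h3 := meas_supermodular
        (Subgroup.le_centralizer_iff_isMulCommutative.2 hWel.1) P₁ (A' ⊔ Cq)
      rw [e] at h3
      have h4 := h2 _ (inf_le_left : A' ⊓ P₁ ≤ A') (le_inf inf_le_left (inf_le_right.trans hCP))
      have hpos : 0 < meas W (A' ⊔ Cq) := Nat.mul_pos Nat.card_pos Nat.card_pos
      have e2 : (A ⊔ Cq) ⊔ (A' ⊔ s.sup fun d : D => cj (d : G) A) = P₁ ⊔ (A' ⊔ Cq) := by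
        simp only [P₁]
        refine le_antisymm (sup_le (le_sup_of_le_left le_sup_left) (sup_le
          (le_sup_of_le_right le_sup_left) (le_sup_of_le_left le_sup_right))) ?_
        exact sup_le (sup_le le_sup_left (le_sup_of_le_right le_sup_right))
          (sup_le (le_sup_of_le_right le_sup_left) (le_sup_of_le_left le_sup_right))
      rw [e2]
      refine ih.trans (Nat.le_of_mul_le_mul_right ?_ hpos)
      exact h3.trans (Nat.mul_le_mul_left _ h4)
  have htop := hmeas Finset.univ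
  rw [Finset.sup_univ_eq_iSup] at htop
  set P := (A ⊔ Cq) ⊔ ⨆ d : D, cj (d : G) A with hP
  have hAP : A ≤ P := le_sup_of_le_left le_sup_left
  have hRP : R ≤ P := by
    rw [hR, Subgroup.commutator_le]
    intro d hd' b hb'
    rw [commutatorElement_def]
    refine P.mul_mem (Subgroup.mem_sup_right ?_) (P.inv_mem (hAP hb'))
    exact le_iSup (fun d : D => cj (d : G) A) ⟨d, hd'⟩ (conj_mem_cj.2 hb')
  set K₂ := Cq ⊔ H with hK₂
  have hAK₂ : A ≤ Subgroup.normalizer (K₂ : Set G) := by
    intro b hb'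
    have hbR : b ∈ Subgroup.normalizer (R : Set G) :=
      CfsgLib.LocalEven.SzL2.mem_normalizer_commutator (hAD hb') (Subgroup.le_normalizer hb')
    have hbAQ : b ∈ Subgroup.normalizer ((A ⊓ Q : Subgroup G) : Set G) :=
      le_normalizer_of_le_inf Subgroup.le_normalizer (hAX.trans hXQ) hb'
    rw [mem_normalizer_iff_cj] at hbR hbAQ ⊢
    rw [hK₂, hH, cj, Subgroup.map_sup, Subgroup.map_sup]
    rw [show Subgroup.map (MulAut.conj b).toMonoidHom Cq = Cq from
      mem_normalizer_iff_cj.1 (hXC (hAX hb'))]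
    rw [cj] at hbR hbAQ
    rw [hbR, hbAQ]
  have hPle : P ≤ A ⊔ K₂ := by
    refine sup_le (sup_le_sup_left le_sup_left _) (iSup_le fun d => ?_)
    rintro _ ⟨b, hb', rfl⟩
    show (d : G) * b * (d : G)⁻¹ ∈ A ⊔ K₂
    have e : (d : G) * b * (d : G)⁻¹ = ⁅(d : G), b⁆ * b := by rw [commutatorElement_def]; group
    rw [e]
    exact Subgroup.mul_mem _ (Subgroup.mem_sup_right (Subgroup.mem_sup_right
      (Subgroup.mem_sup_right (Subgroup.commutator_mem_commutator d.2 hb'))))
      (Subgroup.mem_sup_left hb')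
  have hPcard : Nat.card P ≤ a * (Nat.card Cq * hb) := by
    have h1 := card_sup_mul hAK₂
    have h2 : Nat.card ↥(A ⊓ Q) ≤ Nat.card ↥(A ⊓ K₂) :=
      Subgroup.card_le_of_le (le_inf inf_le_left (le_sup_of_le_right le_sup_left))
    have h3 := card_eq_relIndex_mul (inf_le_left : A ⊓ Q ≤ A)
    rw [Subgroup.inf_relIndex_left, ← hadef] at h3
    have h4 : Nat.card K₂ = Nat.card Cq * hb := by
      have h5 := card_sup_mul (hHQ.trans (hQX.trans hXC))
      have h6 := card_eq_relIndex_mul (inf_le_left : H ⊓ CW ≤ H)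
      rw [Subgroup.inf_relIndex_left, ← hbdef] at h6
      have h7 : H ⊓ Cq = H ⊓ CW :=
        le_antisymm (inf_le_inf_left _ inf_le_right) (le_inf inf_le_left (le_inf (inf_le_left.trans hHQ) inf_le_right))
      rw [h7, h6, sup_comm] at h5
      refine Nat.eq_of_mul_eq_mul_right (Nat.card_pos (α := ↥(H ⊓ CW))) ?_
      rw [hK₂, h5]; ring
    refine (Subgroup.card_le_of_le hPle).trans
      (Nat.le_of_mul_le_mul_right ?_ (Nat.card_pos (α := ↥(A ⊓ Q))))
    calc Nat.card ↥(A ⊔ K₂) * Nat.card ↥(A ⊓ Q) ≤ Nat.card ↥(A ⊔ K₂) * Nat.card ↥(A ⊓ K₂) :=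
          Nat.mul_le_mul_left _ h2
      _ = _ := by rw [h1, h3, h4]; ring
  have hfix : W ⊓ Subgroup.centralizer (P : Set G) ≤ W ⊓ Subgroup.centralizer (H : Set G) :=
    inf_le_inf_left _ (cen_le (sup_le (inf_le_left.trans hAP) hRP))
  have hx := card_eq_relIndex_mul (inf_le_left : W ⊓ Subgroup.centralizer (H : Set G) ≤ W)
  rw [Subgroup.inf_relIndex_left] at hx
  set x := (Subgroup.centralizer (H : Set G)).relIndex W
  have hxa : x ≤ a * hb := by
    have h1 := htop.trans (Nat.mul_le_mul hPcard (Subgroup.card_le_of_le hfix))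
    rw [hx] at h1
    refine Nat.le_of_mul_le_mul_left ?_ (Nat.mul_pos (Nat.card_pos (α := Cq))
      (Nat.card_pos (α := ↥(W ⊓ Subgroup.centralizer (H : Set G)))))
    calc _ = Nat.card Cq * (x * Nat.card ↥(W ⊓ Subgroup.centralizer (H : Set G))) := by ring
      _ ≤ _ := h1
      _ = _ := by ring
  have h1 : hb ^ 2 * (2 * hb) ≤ hb ^ 2 * a ^ 2 := by
    calc hb ^ 2 * (2 * hb) = 2 * hb ^ 3 := by ring
      _ ≤ x ^ 2 := hgreedy
      _ ≤ (a * hb) ^ 2 := Nat.pow_le_pow_left hxa 2
      _ = _ := by ring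
  have hbpos : 0 < hb := relIndex_pos _ _
  have h2 := Nat.le_of_mul_le_mul_left h1 (pow_pos hbpos 2)
  omega

end CfsgLib.LocalEven.TwoFactor
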