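import Cfsg.Agent.Lib.LocalEven.Factor.CaseOne

/-!
The case of an offending normal subgroup outside `O₂(X)` is impossible.
-/

set_option autoImplicit false
set_option linter.style.haveILetI false

universe u

namespace CfsgLib.LocalEven.TwoFactor

open Cfsg CfsgLib.LocalEven.S4W CfsgLib.Techniques
open scoped commutatorElement

variable {G : Type u} [Group G] [Finite G]

section Count

variable {T : Type*} [Group T]

/-- The fixed points of an automorphism. -/
def fixedPts (β : MulAut T) : Subgroup T where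
  carrier := {t | β t = t}
  one_mem' := map_one β
  mul_mem' {a b} ha hb := by simp only [Set.mem_setOf_eq] at *; rw [map_mul, ha, hb]
  inv_mem' {a} ha := by simp only [Set.mem_setOf_eq] at *; rw [map_inv, ha]

/-- The map `t ↦ α(t) t` on a group of exponent two. -/
def shiftHom (hsq : ∀ t : T, t * t = 1) (α : MulAut T) : T →* T :=
  MonoidHom.mk' (fun t => α t * t) fun a b => by
    have hc : ∀ u v : T, u * v = v * u := fun u v => by
      calc u * v = (v * v) * (u * v) * (u * u) := by rw [hsq, hsq]; group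
        _ = v * ((v * u) * (v * u)) * u := by group
        _ = v * u := by rw [hsq]; group
    simp only [map_mul]
    calc α a * α b * (a * b) = α a * (α b * a) * b := by group
      _ = α a * (a * α b) * b := by rw [hc (α b) a]
      _ = _ := by group

theorem fixed_of_sq_shift (hsq : ∀ t : T, t * t = 1) {β : MulAut T} (hβ : Odd (orderOf β)) {u : T}
    (h : β (β u) * u ∈ fixedPts β) : β u = u := by
  obtain ⟨j, hj⟩ := hβ
  set i := β (β u) * u with hi
  have hβi : β i = i := h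
  have hstep : β (β u) = i * u := by rw [hi, mul_assoc, hsq, mul_one]
  have hpow : ∀ n : ℕ, (β ^ (2 * n)) u = i ^ n * u := by
    intro n
    induction n with
    | zero => simp
    | succ n ih =>
      rw [show 2 * (n + 1) = 2 + 2 * n by ring, pow_add, MulAut.mul_apply, ih, pow_two,
        MulAut.mul_apply, map_mul, map_mul, map_pow, map_pow, hβi, hβi, hstep, pow_succ]
      group
  have h1 : (β ^ (2 * orderOf β)) u = u := by
    rw [mul_comm, pow_mul, pow_orderOf_eq_one, one_pow]; rfl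
  rw [hpow] at h1
  have h2 : i ^ orderOf β = 1 := mul_eq_right.1 h1
  rw [hj, pow_succ, pow_mul, pow_two, hsq, one_pow, one_mul] at h2
  have h3 : (β ^ (2 * (j + 1))) u = u := by rw [hpow, h2, one_pow, one_mul]
  rw [show 2 * (j + 1) = orderOf β + 1 by omega, pow_succ, pow_orderOf_eq_one, one_mul] at h3
  exact h3

/-- An involution inverting an automorphism of order `r` moves at least half of the `d` dimensions. -/
theorem count_bound [Finite T] (hsq : ∀ t : T, t * t = 1) {α β : MulAut T} {r d : ℕ} (hr : r.Prime)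
    (hr2 : r ≠ 2) (hd : ∀ j : ℕ, 0 < j → r ∣ 2 ^ j - 1 → d ≤ j) (hβ : orderOf β = r)
    (hinv : α * β * α⁻¹ = β⁻¹) :
    1 < (fixedPts β).relIndex (shiftHom hsq α).range ∧
      2 ^ d ≤ (fixedPts β).relIndex (shiftHom hsq α).range ^ 2 := by
  classical
  haveI := Fact.mk hr
  haveI : Fact (Nat.Prime 2) := ⟨Nat.prime_two⟩
  set F := fixedPts β
  set L := F.comap (shiftHom hsq α) with hL
  set k := F.relIndex (shiftHom hsq α).range with hk
  have hLk : L.index = k := by rw [hk, hL, Subgroup.index_comap]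
  set L' := L.map β.toMonoidHom with hL'
  have hL'k : L'.index = k := by
    rw [← hLk, hL', Subgroup.index_map_of_bijective β.bijective]
  have hodd : Odd (orderOf β) := hβ ▸ hr.odd_of_ne_two hr2
  have hle : L ⊓ L' ≤ F := by
    rintro t ⟨ht, s, hs, rfl⟩
    have e1 : α (β s) * β s ∈ F := ht
    have e2 : α s * s ∈ F := hs
    have hαβ : α (β s) = β.symm (α s) := by
      have h1 : α * β = β⁻¹ * α := by rw [← hinv]; group
      exact DFunLike.congr_fun h1 s
    have f1 : β (α (β s) * β s) = α (β s) * β s := e1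
    have f2 : β (α s * s) = α s * s := e2
    rw [map_mul, hαβ, MulEquiv.apply_symm_apply] at f1
    -- `f1 : α s * β (β s) = β⁻¹ (α s) * β s`
    have f3 : β (β (β s) * s) = β (β s) * s := by
      have g1 := congrArg β f1
      rw [map_mul, map_mul, MulEquiv.apply_symm_apply] at g1
      rw [map_mul] at f2
      have hc : ∀ u v : T, u * v = v * u := fun u v => by
        calc u * v = (v * v) * (u * v) * (u * u) := by rw [hsq, hsq]; group
          _ = v * ((v * u) * (v * u)) * u := by group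
          _ = v * u := by rw [hsq]; group
      have g2 : β (β (β s)) = β (α s) * α s * β (β s) := by
        calc β (β (β s)) = (β (α s) * β (α s)) * β (β (β s)) := by rw [hsq, one_mul]
          _ = β (α s) * (α s * β (β s)) := by rw [mul_assoc, g1]
          _ = _ := by group
      have g3 : β (α s) * α s = β s * s := by
        calc β (α s) * α s = (β (α s) * β s) * β s * α s := by rw [mul_assoc (β (α s)), hsq, mul_one]
          _ = α s * s * β s * α s := by rw [f2]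
          _ = (α s * α s) * (s * β s) := by rw [hc (α s * s * β s) (α s)]; group
          _ = β s * s := by rw [hsq, one_mul, hc]
      rw [map_mul, g2, g3]
      calc β s * s * β (β s) * β s = β s * (s * β (β s)) * β s := by group
        _ = β s * β s * (β (β s) * s) := by rw [hc (β s * (s * β (β s))) (β s), hc s]; group
        _ = _ := by rw [hsq, one_mul]
    have h3 : β s = s := fixed_of_sq_shift hsq hodd f3
    show β (β s) = β s
    rw [h3]
    exact h3
  have hidx : F.index ≤ k ^ 2 := by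
    refine (Nat.le_of_dvd (Nat.pos_of_ne_zero Subgroup.index_ne_zero_of_finite)
      (Subgroup.index_dvd_of_le hle)).trans (Subgroup.index_inf_le.trans ?_)
    rw [hLk, hL'k, pow_two]
  have hFne : F ≠ ⊤ := fun h => by
    have h1 : β = 1 := MulEquiv.ext fun t => (h ▸ Subgroup.mem_top t : t ∈ F)
    rw [h1, orderOf_one] at hβ
    exact hr.one_lt.ne hβ
  have hT2 : IsPGroup 2 T := fun t => ⟨1, by rw [pow_one, pow_two, hsq]⟩
  obtain ⟨j, hj⟩ := hT2.index F
  have hj0 : 0 < j := Nat.pos_of_ne_zero fun h => hFne (by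
    rw [h, pow_zero] at hj; exact Subgroup.index_eq_one.1 hj)
  have hdvd : r ∣ 2 ^ j - 1 := by
    have hp : IsPGroup r (Subgroup.zpowers β) :=
      IsPGroup.of_card (n := 1) (by rw [Nat.card_zpowers, hβ, pow_one])
    have h1 := hp.card_modEq_card_fixedPoints (α := T)
    have h2 : Nat.card (MulAction.fixedPoints (Subgroup.zpowers β) T) = Nat.card F := by
      refine Nat.card_congr (Equiv.subtypeEquivRight fun t => ?_)
      constructor
      · exact fun h => h ⟨β, Subgroup.mem_zpowers β⟩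
      · rintro h ⟨g, hg⟩
        have h3 : β ∈ MulAction.stabilizer (MulAut T) t := h
        exact (Subgroup.zpowers_le.2 h3) hg
    rw [h2, ← F.card_mul_index, hj] at h1
    have h4 : r ∣ Nat.card F * 2 ^ j - Nat.card F :=
      (Nat.modEq_iff_dvd' (Nat.le_mul_of_pos_right _ (Nat.two_pow_pos j))).1 h1.symm
    rw [show Nat.card F * 2 ^ j - Nat.card F = Nat.card F * (2 ^ j - 1) by
      rw [Nat.mul_sub_one]] at h4
    refine (Nat.Coprime.dvd_mul_left ?_).1 h4
    obtain ⟨i, hi⟩ := IsPGroup.iff_card.1 (hT2.to_subgroup F)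
    rw [hi]
    exact Nat.Coprime.pow_right _ ((Nat.coprime_primes hr Nat.prime_two).2 hr2)
  rw [hj] at hidx
  refine ⟨?_, (Nat.pow_le_pow_right two_pos (hd j hj0 hdvd)).trans hidx⟩
  have h2 : 2 ≤ 2 ^ j := Nat.le_self_pow hj0.ne' 2
  nlinarith

end Count

variable {S X U V D D₁ : Subgroup G}

/-- The inequality `q ≥ k` for the conjugate of `Ct` under `y`. -/
theorem conj_bound (c : Reduced S X U) (o : Offended U V)
    (hs : Section X (pCoreOf 2 X) ⊥ D D₁) {Ct : Subgroup G} (hCV : Ct ≤ V)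
    (hVC : V ⊓ pCoreOf 2 X ≤ Ct) {a y : G} (ha : a ∈ V) (hy : y ∈ X) (ho : Odd (orderOf y))
    {T : Type u} [Group T] [Finite T] (hsq : ∀ t : T, t * t = 1) (θ : ↥D →* T)
    (hθ : Function.Surjective θ) {α β : MulAut T} {r d : ℕ} (hr : r.Prime) (hr2 : r ≠ 2)
    (hd : ∀ j : ℕ, 0 < j → r ∣ 2 ^ j - 1 → d ≤ j) (hβ : orderOf β = r)
    (hinv : α * β * α⁻¹ = β⁻¹)
    (hα' : ∀ e e' : ↥D, (e' : G) = a * e * a⁻¹ → α (θ e) = θ e')
    (hβ' : ∀ e e' : ↥D, (e' : G) = y * e * y⁻¹ → β (θ e) = θ e') :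
    ∃ k, 1 < k ∧ 2 ^ d ≤ k ^ 2 ∧
      k ≤ (Subgroup.centralizer (Ct : Set G)).relIndex (cj y Ct) := by
  obtain ⟨hQX, hQ2, hXQ, -⟩ := coreTwo_spec X
  set Q := pCoreOf 2 X with hQ
  obtain ⟨h1, h2⟩ := count_bound hsq hr hr2 hd hβ hinv
  refine ⟨_, h1, h2, ?_⟩
  set F := fixedPts β
  have haX : a ∈ X := c.syl.le (o.le ha)
  have hDX : D ≤ X := hs.le_Q.trans hQX
  have conjD : ∀ g ∈ X, ∀ e ∈ D, g * e * g⁻¹ ∈ D := fun g hg e he =>
    (Subgroup.mem_normalizer_iff.1 (hs.norm hg) e).1 he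
  set E := cj y (V ⊓ D) with hE
  have hED : E ≤ D := by
    rintro _ ⟨e, he, rfl⟩
    exact conjD y hy e he.2
  have hEC : E ≤ cj y Ct := cj_mono ((inf_le_inf_left _ hs.le_Q).trans hVC)
  have hβF : F.map β.toMonoidHom = F := by
    ext t
    constructor
    · rintro ⟨s, hs', rfl⟩
      show β (β s) = β s
      rw [show β s = s from hs', show β s = s from hs']
    · exact fun ht => ⟨t, ht, ht⟩
  set E₀ := E.subgroupOf D
  have hsub : (shiftHom hsq α).range.map β.toMonoidHom ≤ E₀.map θ := by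
    rintro _ ⟨_, ⟨t, rfl⟩, rfl⟩
    obtain ⟨⟨e, he⟩, rfl⟩ := hθ t
    have hm : a * e * a⁻¹ * e⁻¹ ∈ V ⊓ D := by
      refine ⟨?_, D.mul_mem (conjD a haX e he) (D.inv_mem he)⟩
      have hV : e * a⁻¹ * e⁻¹ ∈ V :=
        (Subgroup.mem_normalizer_iff.1 (o.norm (c.coreLe (hs.le_Q he))) _).1 (V.inv_mem ha)
      have e1 : a * e * a⁻¹ * e⁻¹ = a * (e * a⁻¹ * e⁻¹) := by group
      rw [e1]
      exact V.mul_mem ha hV
    refine ⟨⟨y * (a * e * a⁻¹ * e⁻¹) * y⁻¹, hED (conj_mem_cj.2 hm)⟩, conj_mem_cj.2 hm, ?_⟩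
    rw [← hβ' ⟨_, hm.2⟩ _ rfl]
    refine congrArg β ?_
    show θ ⟨a * e * a⁻¹ * e⁻¹, hm.2⟩ = α (θ ⟨e, he⟩) * θ ⟨e, he⟩
    rw [hα' ⟨e, he⟩ ⟨a * e * a⁻¹, conjD a haX e he⟩ rfl]
    conv_rhs => arg 2; rw [← inv_eq_of_mul_eq_one_right (hsq (θ ⟨e, he⟩)), ← map_inv]
    rw [← map_mul]
    rfl
  have hfixed : ∀ e : ↥D, (e : G) ∈ E → (e : G) ∈ Subgroup.centralizer (Ct : Set G) → θ e ∈ F := by
    rintro ⟨t, htD⟩ htE htC
    obtain ⟨v, hv, hvt⟩ := htE
    have hvt' : y * v * y⁻¹ = t := hvt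
    have hta : a * t * a⁻¹ ∈ D := conjD a haX t htD
    have hfix1 : ∀ q ∈ Q, ⁅a * t * a⁻¹, q⁆ = ⁅t, q⁆ := by
      intro q hq
      set s := ⁅t, q⁆ with hsdef
      have hs1 : s ∈ D₁ := by
        rw [hsdef, ← commutatorElement_inv]
        exact D₁.inv_mem (hs.comm q hq t htD)
      have hyfix : ∀ z ∈ D₁, y * z * y⁻¹ = z := fun z hz => by
        have h3 := hs.triv y hy ho z hz
        rw [Subgroup.mem_bot, commutatorElement_eq_one_iff_mul_comm] at h3
        rw [h3, mul_inv_cancel_right]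
      have has : a * s * a⁻¹ ∈ D₁ := (Subgroup.mem_normalizer_iff.1 (hs.norm₁ haX) s).1 hs1
      have hu : q⁻¹ * (a⁻¹ * q * a) ∈ Ct := hVC ⟨by
          have h4 := (Subgroup.mem_normalizer_iff.1 (o.norm (c.coreLe (Q.inv_mem hq))) a⁻¹).1
            (V.inv_mem ha)
          rw [inv_inv] at h4
          have e1 : q⁻¹ * (a⁻¹ * q * a) = q⁻¹ * a⁻¹ * q * a := by group
          rw [e1]
          exact V.mul_mem h4 ha,
        Q.mul_mem (Q.inv_mem hq) (by
          simpa using (Subgroup.mem_normalizer_iff.1 (hXQ (X.inv_mem haX)) q).1 hq)⟩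
      have e2 : ⁅a * t * a⁻¹, q⁆ = a * s * a⁻¹ := by
        have e3 : ⁅a * t * a⁻¹, q⁆ =
            a * (⁅t, q⁆ * (q * ⁅t, q⁻¹ * (a⁻¹ * q * a)⁆ * q⁻¹)) * a⁻¹ := by
          simp only [commutatorElement_def]; group
        rw [e3, commutatorElement_eq_one_iff_mul_comm.2
          (Subgroup.mem_centralizer_iff.1 htC _ hu).symm, hsdef]
        group
      set q₁ := y⁻¹ * q * y with hq₁
      have hq₁Q : q₁ ∈ Q := by
        simpa using (Subgroup.mem_normalizer_iff.1 (hXQ (X.inv_mem hy)) q).1 hq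
      have hu₁ : q₁⁻¹ * a * q₁ * a⁻¹ ∈ V := by
        have h4 := (Subgroup.mem_normalizer_iff.1 (o.norm (c.coreLe (Q.inv_mem hq₁Q))) a).1 ha
        rw [inv_inv] at h4
        exact V.mul_mem h4 (V.inv_mem ha)
      set a' := y * a * y⁻¹ with ha'
      have e4 : a' * t * a'⁻¹ = t := by
        rw [ha', ← hvt', show y * a * y⁻¹ * (y * v * y⁻¹) * (y * a * y⁻¹)⁻¹ =
          y * (a * v * a⁻¹) * y⁻¹ by group, comm_el o.el ha hv.1, mul_inv_cancel_right]
      have e5 : ⁅t, a' * q * a'⁻¹⁆ = s := by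
        have e6 : a' * q * a'⁻¹ = q * (y * (q₁⁻¹ * a * q₁ * a⁻¹) * y⁻¹) := by
          rw [ha', hq₁]; group
        rw [e6, show ⁅t, q * (y * (q₁⁻¹ * a * q₁ * a⁻¹) * y⁻¹)⁆ =
          ⁅t, q⁆ * (q * ⁅t, y * (q₁⁻¹ * a * q₁ * a⁻¹) * y⁻¹⁆ * q⁻¹) by
            simp only [commutatorElement_def]; group]
        rw [commutatorElement_eq_one_iff_mul_comm.2 (show t * (y * (q₁⁻¹ * a * q₁ * a⁻¹) * y⁻¹) =
          y * (q₁⁻¹ * a * q₁ * a⁻¹) * y⁻¹ * t from
            comm_el (el_map (MulAut.conj y).toMonoidHom o.el) ⟨v, hv.1, hvt⟩ ⟨_, hu₁, rfl⟩), hsdef]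
        group
      have e7 : a' * s * a'⁻¹ = a * s * a⁻¹ := by
        have h5 : y⁻¹ * s * y = s := by
          conv_lhs => rw [← hyfix s hs1]
          group
        calc a' * s * a'⁻¹ = y * (a * (y⁻¹ * s * y) * a⁻¹) * y⁻¹ := by rw [ha']; group
          _ = _ := by rw [h5, hyfix _ has]
      rw [e2, ← e7]
      have e8 : a' * s * a'⁻¹ = ⁅a' * t * a'⁻¹, a' * q * a'⁻¹⁆ :=
        map_commutatorElement (MulAut.conj a').toMonoidHom t q
      rw [e8, e4, e5]
    set w := t⁻¹ * (a * t * a⁻¹) with hw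
    have hwD : w ∈ D := D.mul_mem (D.inv_mem htD) hta
    have hwC : w ∈ Subgroup.centralizer (Q : Set G) := Subgroup.mem_centralizer_iff.2 fun q hq => by
      have h3 := hfix1 q hq
      simp only [commutatorElement_def] at h3
      have h4 := mul_right_cancel h3
      calc q * w = t⁻¹ * (t * q * t⁻¹) * (a * t * a⁻¹) := by rw [hw]; group
        _ = _ := by rw [← h4, hw]; group
    have hyw : y * w * y⁻¹ = w := by
      rw [← Subgroup.mem_centralizer_iff.1 (c.odd_center y hy ho) w ⟨hs.le_Q hwD, hwC⟩,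
        mul_inv_cancel_right]
    set tb := θ ⟨t, htD⟩ with htb
    have e9 : α tb = tb * θ ⟨w, hwD⟩ := by
      rw [htb, hα' ⟨t, htD⟩ ⟨a * t * a⁻¹, hta⟩ rfl, ← map_mul]
      refine congrArg θ (Subtype.ext ?_)
      show a * t * a⁻¹ = t * w
      rw [hw, mul_inv_cancel_left]
    have e10 : β (α (β.symm tb)) = tb := by
      have ht' : y⁻¹ * t * y = v := by rw [← hvt']; group
      have hy2 : β.symm tb = θ ⟨v, hv.2⟩ := by
        rw [MulEquiv.symm_apply_eq, hβ' ⟨v, hv.2⟩ ⟨t, htD⟩ hvt'.symm]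
      rw [hy2, hα' ⟨v, hv.2⟩ ⟨a * v * a⁻¹, conjD a haX v hv.2⟩ rfl,
        hβ' ⟨a * v * a⁻¹, _⟩ ⟨t, htD⟩ (by
          show t = y * (a * v * a⁻¹) * y⁻¹
          rw [comm_el o.el ha hv.1, mul_inv_cancel_right, hvt'])]
    have e11 : α (β.symm tb) = β (α tb) := by
      have h3 : α * β⁻¹ = β * α := by
        have := congrArg (fun z => z⁻¹ * α) hinv
        simp only [inv_inv] at this
        rw [← this]
        group
      exact DFunLike.congr_fun h3 tb
    rw [e11, e9, map_mul, map_mul] at e10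
    have hwF : β (θ ⟨w, hwD⟩) = θ ⟨w, hwD⟩ := hβ' _ _ hyw.symm
    rw [hwF, hwF] at e10
    have h6 : β (β tb) * tb ∈ fixedPts β := by
      have e12 : β (β tb) = tb * θ ⟨w, hwD⟩ := by
        conv_rhs => arg 1; rw [← e10]
        rw [mul_assoc, hsq, mul_one]
      rw [e12]
      show β (tb * θ ⟨w, hwD⟩ * tb) = _
      have hc : tb * θ ⟨w, hwD⟩ * tb = θ ⟨w, hwD⟩ := by
        calc tb * θ ⟨w, hwD⟩ * tb
            = (tb * θ ⟨w, hwD⟩) * (tb * θ ⟨w, hwD⟩) * (θ ⟨w, hwD⟩)⁻¹ := by group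
          _ = _ := by rw [hsq, one_mul, inv_eq_of_mul_eq_one_right (hsq _)]
      rw [hc, hwF]
    exact fixed_of_sq_shift hsq (hβ ▸ hr.odd_of_ne_two hr2) h6
  calc F.relIndex (shiftHom hsq α).range
      = F.relIndex ((shiftHom hsq α).range.map β.toMonoidHom) := by
        conv_rhs => rw [← hβF, Subgroup.relIndex_map_map_of_injective F _ β.injective]
    _ ≤ F.relIndex (E₀.map θ) := Subgroup.relIndex_le_of_le_right hsub (relIndex_pos _ _).ne'
    _ = (F.comap θ).relIndex E₀ := (Subgroup.relIndex_comap _ _ _).symm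
    _ ≤ ((Subgroup.centralizer (Ct : Set G)).subgroupOf D ⊓ E₀).relIndex E₀ := by
        refine Subgroup.relIndex_le_of_le_left ?_ (relIndex_pos _ _).ne'
        rintro e ⟨heC, heE⟩
        exact hfixed e heE heC
    _ = (Subgroup.centralizer (Ct : Set G)).relIndex E := by
        rw [Subgroup.inf_relIndex_right, Subgroup.relIndex_subgroupOf hED]
    _ ≤ _ := Subgroup.relIndex_le_of_le_right hEC (relIndex_pos _ _).ne'

set_option maxHeartbeats 1600000 in
/-- The offending subgroup lies in `O₂(X)`. -/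
theorem le_core_of_offended (c : Reduced S X U) (o : Offended U V) : V ≤ pCoreOf 2 X := by
  classical
  by_contra hVQ
  obtain ⟨hQX, hQ2, hXQ, hQmax⟩ := coreTwo_spec X
  set Q := pCoreOf 2 X with hQdef
  have hQU : Q ≤ U := c.coreLe
  have hVX : V ≤ X := o.le.trans c.syl.le
  have hodd : ∃ y ∈ X, Odd (orderOf y) ∧ ∃ q ∈ Q, ⁅y, q⁆ ∉ (⊥ : Subgroup G) := by
    by_contra h
    push Not at h
    have h1 : X ≤ U := le_of_syl_of_odd c.syl le_rfl fun y hy ho => by
      rw [eq_one_of_odd_of_isPGroup hQ2 (c.char2 ⟨hy, Subgroup.mem_centralizer_iff.2 fun q hq =>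
        (commutatorElement_eq_one_iff_mul_comm.1 (Subgroup.mem_bot.1 (h y hy ho q hq))).symm⟩) ho]
      exact Subgroup.one_mem _
    exact c.notJ (c.jel.trans (hQmax U c.syl.le c.syl.two (h1.trans Subgroup.le_normalizer)))
  obtain ⟨D, D₁, hs⟩ := exists_section hQX hQ2 hXQ
    (fun g _ => by
      rw [mem_normalizer_iff_cj, cj, Subgroup.map_bot])
    bot_le hodd
  rw [hQdef] at hs
  set N₁ := Subgroup.normalizer (D₁ : Set G)
  obtain ⟨hc, hfree3, hO⟩ :=
    act_facts (free_sect c.free) (hs.comp_img c) hs.el_img hs.img_le_normalizer (hs.red c)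
  set φ := actHom hs.img_le_normalizer with hφ
  let jX : ↥X →* ↥(sectImg D₁ X) :=
    ((QuotientGroup.mk' _).comp (Subgroup.inclusion hs.norm₁)).codRestrict _ fun x => ⟨_, x.2, rfl⟩
  set ψ : ↥X →* ↥φ.range := φ.rangeRestrict.comp jX with hψ
  have hψs : Function.Surjective ψ := φ.rangeRestrict_surjective.comp (by
    rintro ⟨_, x, hx, rfl⟩
    exact ⟨⟨x, hx⟩, rfl⟩)
  have hψ1 : ∀ x : ↥X, ψ x = 1 ↔ (x : G) ∈ sectCent D D₁ := by
    intro x
    rw [← hs.mem_cent_img ⟨x, hs.norm₁ x.2⟩, hψ, MonoidHom.comp_apply, ← MonoidHom.mem_ker,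
      MonoidHom.ker_rangeRestrict, hφ, ker_actHom, Subgroup.mem_subgroupOf]
    rfl
  set KT := X ⊓ sectCent D D₁ with hKT
  have hUKT : U ⊓ KT ≤ Q := hs.inf_le c
  have hQKT : Q ≤ KT := le_inf hQX hs.core_le
  set Vx := V.subgroupOf X with hVx
  have hVxel : IsElementaryAbelian 2 Vx :=
    ⟨⟨⟨fun u v => Subtype.ext (Subtype.ext (comm_el o.el u.2 v.2))⟩⟩,
      fun u hu => Subtype.ext (by simpa using o.el.2 _ hu)⟩
  set Ab := Vx.map ψ with hAb
  have hAbne : Ab ≠ ⊥ := fun h => hVQ fun v hv => hUKT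
    ⟨o.le hv, hVX hv, (hψ1 ⟨v, hVX hv⟩).1 (Subgroup.mem_bot.1 (h ▸ ⟨_, hv, rfl⟩))⟩
  have hAbel : IsElementaryAbelian 2 Ab := el_map ψ hVxel
  obtain ⟨Cb, yb, ab, r, d, hCA, -, haA, hr, hr2, hd, hyo, hyC, hinv, hidx⟩ :=
    CfsgLib.LocalEven.SzL2.exists_data hO hfree3 hc hAbel hAbne
  set Ct := (Cb.comap ψ ⊓ Vx).map X.subtype with hCt
  set K' := (Cb.comap ψ).map X.subtype with hK'
  have hCtV : Ct ≤ V := by
    rintro _ ⟨x, hx, rfl⟩
    exact hx.2
  have hKTK : KT ≤ K' := fun z hz => ⟨⟨z, hz.1⟩, by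
    show ψ ⟨z, hz.1⟩ ∈ Cb
    rw [(hψ1 ⟨z, hz.1⟩).2 hz.2]
    exact Cb.one_mem, rfl⟩
  have hVC : V ⊓ Q ≤ Ct := fun z hz => by
    obtain ⟨x, hx, rfl⟩ := hKTK (hQKT hz.2)
    exact ⟨x, ⟨hx, hz.1⟩, rfl⟩
  have hCtK : Ct ≤ K' := Subgroup.map_mono inf_le_left
  have hK'X : K' ≤ X := Subgroup.map_subtype_le _
  have hsup : K' = Ct ⊔ KT := by
    refine le_antisymm ?_ (sup_le hCtK hKTK)
    rintro _ ⟨x, hx, rfl⟩
    obtain ⟨v, hv, hvx⟩ := hCA hx
    have e : (x : G) = (v : G) * ((v⁻¹ * x : ↥X) : G) := by simp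
    show (x : G) ∈ Ct ⊔ KT
    rw [e]
    refine Subgroup.mul_mem_sup ⟨v, ⟨show ψ v ∈ Cb by rw [hvx]; exact hx, hv⟩, rfl⟩
      ⟨(v⁻¹ * x).2, (hψ1 _).1 ?_⟩
    rw [map_mul, map_inv, hvx, inv_mul_cancel]
  set P := Ct ⊔ Q with hP
  have hPU : P ≤ U := sup_le (hCtV.trans o.le) hQU
  have hsylKT := c.syl.inf_normal (inf_le_left : KT ≤ X) hs.norm_cent
  rw [show U ⊓ KT = Q from le_antisymm hUKT (le_inf hQU hQKT)] at hsylKT
  have hPK : Syl P K' := by
    refine ⟨sup_le hCtK (hQKT.trans hKTK), c.syl.two.to_le hPU, ?_⟩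
    have h1 := card_sup_mul ((hCtV.trans hVX).trans hs.norm_cent : Ct ≤ Subgroup.normalizer (KT : Set G))
    have h2 := card_sup_mul ((hCtV.trans hVX).trans hXQ : Ct ≤ Subgroup.normalizer (Q : Set G))
    rw [← hsup, show Ct ⊓ KT = Ct ⊓ Q from le_antisymm
      (le_inf inf_le_left ((inf_le_inf_right _ (hCtV.trans o.le)).trans hUKT))
      (inf_le_inf_left _ hQKT)] at h1
    rw [← hP] at h2
    have h3 := card_eq_relIndex_mul (sup_le hCtK (hQKT.trans hKTK) : P ≤ K')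
    have h4 := card_eq_relIndex_mul hQKT
    have e : P.relIndex K' = Q.relIndex KT := by
      refine Nat.eq_of_mul_eq_mul_right (Nat.mul_pos (Nat.card_pos (α := P))
        (Nat.card_pos (α := ↥(Ct ⊓ Q)))) ?_
      rw [← mul_assoc, ← h3, h1, h4, h2]
      ring
    rw [e]
    exact hsylKT.odd
  obtain ⟨g, hg⟩ := hψs yb
  obtain ⟨k, hk, hkP⟩ := hPK.conj_le ((hPK.two.map _) : IsPGroup 2 (cj (g : G) P)) (by
    rintro _ ⟨z, hz, rfl⟩
    obtain ⟨x, hx, rfl⟩ := hPK.le hz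
    refine ⟨g * x * g⁻¹, ?_, rfl⟩
    show ψ (g * x * g⁻¹) ∈ Cb
    rw [map_mul, map_mul, map_inv, hg, ← Subgroup.mem_centralizer_iff.1 hyC (ψ x) hx,
      mul_inv_cancel_right]
    exact hx)
  set n : ↥X := ⟨k, hK'X hk⟩ * g
  have hnP : (n : G) ∈ Subgroup.normalizer (P : Set G) := by
    rw [mem_normalizer_iff_cj]
    refine Subgroup.eq_of_le_of_card_ge ?_ (card_cj _ _).ge
    rwa [Subgroup.coe_mul, cj_mul]
  have hkC : ψ ⟨k, hK'X hk⟩ ∈ Cb := by
    obtain ⟨x, hx, hxk⟩ := id hk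
    rw [show (⟨k, hK'X hk⟩ : ↥X) = x from Subtype.ext hxk.symm]
    exact hx
  obtain ⟨j, hj⟩ := exists_odd_pow (n : G)
  set e := 2 ^ (j + 1)
  set y : ↥X := n ^ e with hy
  have hyodd : Odd (orderOf (y : G)) := by
    rw [hy, SubgroupClass.coe_pow, show e = 2 ^ j * 2 from pow_succ 2 j, pow_mul]
    exact odd_orderOf_pow hj 2
  have hψy : ψ y = yb ^ e := by
    rw [hy, map_pow, map_mul, hg, (show Commute (ψ ⟨k, hK'X hk⟩) yb from
      Subgroup.mem_centralizer_iff.1 hyC _ hkC).mul_pow, show e = 2 * 2 ^ j from pow_succ' 2 j,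
      pow_mul (ψ ⟨k, _⟩), hAbel.2 _ (hCA hkC), one_pow, one_mul]
  have hyr : orderOf (ψ y) = r := by
    rw [hψy, Nat.Coprime.orderOf_pow, hyo]
    rw [hyo]
    exact Nat.Coprime.pow_right _ ((Nat.coprime_primes hr Nat.prime_two).2 hr2)
  obtain ⟨a, ha, rfl⟩ := haA
  have hinv' : ψ a * ψ y * (ψ a)⁻¹ = (ψ y)⁻¹ := by rw [hψy, ← conj_pow, hinv, inv_pow]
  -- the action on `D / D₁`
  have hsq : ∀ t : ↥(sectImg D₁ D), t * t = 1 := fun t => Subtype.ext (by
    rw [Subgroup.coe_mul, Subgroup.coe_one, ← pow_two]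
    exact hs.el_img.2 _ t.2)
  let θ : ↥D →* ↥(sectImg D₁ D) :=
    ((QuotientGroup.mk' _).comp (Subgroup.inclusion hs.sub_norm)).codRestrict _ fun z => ⟨_, z.2, rfl⟩
  have hθ : Function.Surjective θ := by
    rintro ⟨_, z, hz, rfl⟩
    exact ⟨⟨z, hz⟩, rfl⟩
  have hact : ∀ (x : ↥X) (z z' : ↥D), (z' : G) = x * z * (x : G)⁻¹ →
      (ψ x : MulAut ↥(sectImg D₁ D)) (θ z) = θ z' := by
    intro x z z' hzz
    refine Subtype.ext ?_
    rw [show (ψ x : MulAut ↥(sectImg D₁ D)) = φ (jX x) from rfl]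
    rw [hφ, coe_actHom]
    show QuotientGroup.mk' _ _ * QuotientGroup.mk' _ _ * (QuotientGroup.mk' _ _)⁻¹ =
      QuotientGroup.mk' _ _
    rw [← map_inv, ← map_mul, ← map_mul]
    exact congrArg _ (Subtype.ext hzz.symm)
  have hP' : ∀ z : ↥X, (z : G) ∈ Subgroup.normalizer (P : Set G) → cj (z : G) Ct ≤ U :=
    fun z hz => ((cj_mono le_sup_left).trans (mem_normalizer_iff_cj.1 hz).le).trans hPU
  have hyP : (y : G) ∈ Subgroup.normalizer (P : Set G) := by
    rw [hy, SubgroupClass.coe_pow]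
    exact Subgroup.pow_mem _ hnP e
  have hinvG : ((ψ a : MulAut ↥(sectImg D₁ D))) * (ψ y : MulAut ↥(sectImg D₁ D)) * (ψ a : MulAut ↥(sectImg D₁ D))⁻¹ = (ψ y : MulAut ↥(sectImg D₁ D))⁻¹ := by
    simpa using congrArg Subtype.val hinv'
  have hordG : orderOf (ψ y : MulAut ↥(sectImg D₁ D)) = r := by rw [Subgroup.orderOf_coe, hyr]
  obtain ⟨k₁, hk₁, hk₁', hq⟩ := conj_bound c o hs hCtV hVC (y := (y : G)) ha y.2 hyodd hsq θ hθ
    hr hr2 hd hordG hinvG (fun z z' h => hact a z z' h) fun z z' h => hact y z z' h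
  obtain ⟨k₂, hk₂, hk₂', hp⟩ := conj_bound c o hs hCtV hVC (y := ((y⁻¹ : ↥X) : G)) ha (y⁻¹).2
    (by rw [InvMemClass.coe_inv, orderOf_inv]; exact hyodd) hsq θ hθ hr hr2 hd
    (β := (ψ y⁻¹ : MulAut ↥(sectImg D₁ D))) (by rw [map_inv, InvMemClass.coe_inv, orderOf_inv, hordG])
    (by
      rw [map_inv, InvMemClass.coe_inv, ← conj_inv, hinvG])
    (fun z z' h => hact a z z' h) fun z z' h => hact y⁻¹ z z' h
  set CCt := Subgroup.centralizer (Ct : Set G)
  set cc := Ct.relIndex V with hcc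
  have hccidx : cc = Cb.relIndex Ab := by
    rw [hcc, hAb, ← Subgroup.relIndex_comap, ← Subgroup.inf_relIndex_right (Cb.comap ψ) Vx, hCt]
    conv_lhs => arg 2; rw [← Subgroup.map_subgroupOf_eq_of_le hVX]
    exact Subgroup.relIndex_map_map_of_injective _ _ X.subtype_injective
  have key : ∀ z : ↥X, (z : G) ∈ Subgroup.normalizer (P : Set G) →
      1 < CCt.relIndex (cj (z : G) Ct) →
      2 * CCt.relIndex (cj (z : G) Ct) ^ 3 ≤ (cc * CCt.relIndex (cj ((z⁻¹ : ↥X) : G) Ct)) ^ 2 := by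
    intro z hz h1
    set R := cj (z : G) Ct
    have hRC : (Subgroup.centralizer (V : Set G)) ≤ CCt := cen_le hCtV
    have hnc : ¬ R ≤ Subgroup.centralizer (V : Set G) := fun h =>
      h1.ne' (Subgroup.relIndex_eq_one.2 (h.trans hRC))
    obtain ⟨h2, -⟩ := o.prop R (hP' z hz) (elImg_of_el (el_map _ (el_mono o.el hCtV))) hnc
    have h3 : CCt.relIndex R ≤ (Subgroup.centralizer (V : Set G)).relIndex R :=
      Subgroup.relIndex_le_of_le_left hRC (relIndex_pos _ _).ne'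
    have e1 : (Subgroup.centralizer (R : Set G)).relIndex Ct = CCt.relIndex (cj ((z⁻¹ : ↥X) : G) Ct) := by
      rw [InvMemClass.coe_inv, ← relIndex_cj (z : G) CCt, cj_centralizer', ← cj_mul, mul_inv_cancel,
        cj_one]
    have h4 : (Subgroup.centralizer (R : Set G)).relIndex V ≤
        cc * (Subgroup.centralizer (R : Set G)).relIndex Ct := by
      rw [hcc, mul_comm, ← Subgroup.inf_relIndex_left Ct, Subgroup.relIndex_mul_relIndex _ _ _ inf_le_left hCtV]
      exact Subgroup.relIndex_le_of_le_left inf_le_right (relIndex_pos _ _).ne'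
    rw [← e1]
    refine two_mul_le_of_lt (relIndex_pow c.hS ((hP' z hz).trans c.hUS) 3) ?_
      (lt_of_le_of_lt (Nat.pow_le_pow_left h3 3) (lt_of_lt_of_le h2 (Nat.pow_le_pow_left h4 2)))
    rw [mul_pow]
    obtain ⟨i₁, hi₁⟩ := relIndex_pow (H := Ct) c.hS (o.le.trans c.hUS) 2
    obtain ⟨i₂, hi₂⟩ := relIndex_pow (H := Subgroup.centralizer (R : Set G)) c.hS
      ((hCtV.trans o.le).trans c.hUS) 2
    exact ⟨i₁ + i₂, by rw [hcc, hi₁, hi₂, pow_add]⟩
  have h1 := key y hyP (lt_of_lt_of_le hk₁ hq)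
  have h2 := key y⁻¹ (by rw [InvMemClass.coe_inv]; exact Subgroup.inv_mem _ hyP)
    (lt_of_lt_of_le hk₂ hp)
  rw [inv_inv] at h2
  set q := CCt.relIndex (cj (y : G) Ct)
  set p := CCt.relIndex (cj ((y⁻¹ : ↥X) : G) Ct)
  have hpq : 2 ^ d ≤ p * q := by
    refine (Nat.pow_le_pow_iff_left two_ne_zero).1 ?_
    calc (2 ^ d) ^ 2 = 2 ^ d * 2 ^ d := pow_two _
      _ ≤ k₂ ^ 2 * k₁ ^ 2 := Nat.mul_le_mul hk₂' hk₁'
      _ ≤ p ^ 2 * q ^ 2 := Nat.mul_le_mul (Nat.pow_le_pow_left hp 2) (Nat.pow_le_pow_left hq 2)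
      _ = _ := (mul_pow p q 2).symm
  have hpos : 0 < p ^ 2 * q ^ 2 :=
    Nat.mul_pos (pow_pos (relIndex_pos _ _) 2) (pow_pos (relIndex_pos _ _) 2)
  have h3 : 4 * (p * q) ≤ cc ^ 4 := by
    refine Nat.le_of_mul_le_mul_left ?_ hpos
    calc p ^ 2 * q ^ 2 * (4 * (p * q)) = 2 * q ^ 3 * (2 * p ^ 3) := by ring
      _ ≤ (cc * p) ^ 2 * (cc * q) ^ 2 := Nat.mul_le_mul h1 h2
      _ = _ := by ring
  rw [← hccidx] at hidx
  have h4 : 0 < 2 ^ d := Nat.two_pow_pos d
  omega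

end CfsgLib.LocalEven.TwoFactor
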