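import Cfsg.Agent.Lib.LocalEven.Factor.Setup
import Cfsg.Agent.Lib.Fusion.SectionFreeFactor

/-!
The configuration left by the two reductions, and a chief-like factor inside `O₂(X)` moved by an
element of odd order.
-/

set_option autoImplicit false
set_option linter.style.haveILetI false

universe u

namespace CfsgLib.LocalEven.TwoFactor

open Cfsg CfsgLib.LocalEven.S4W CfsgLib.Techniques
open CfsgLib.LocalEven.SzL2 (exists_mul_of_mem_sup)
open scoped commutatorElement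

variable {G : Type u} [Group G] [Finite G]

/-- The standing hypotheses of the induction on `X`. -/
structure Config (S X U : Subgroup G) : Prop where
  free : ¬ Involves (Equiv.Perm (Fin 4)) G
  hS : IsPGroup 2 S
  syl : Syl U X
  hUS : U ≤ S
  comp : CompSzL2 ↥X
  char2 : CharTwoType X
  jel : Jel S ≤ U
  mem : ∀ M, Member S M → M ≤ U

/-- The hypotheses after the two reductions. -/
structure Reduced (S X U : Subgroup G) : Prop extends Config S X U where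
  dicho : ∀ K ≤ X, X ≤ Subgroup.normalizer (K : Set G) →
    (∀ y ∈ X, Odd (orderOf y) → y ∈ K) ∨ U ⊓ K ≤ pCoreOf 2 X
  notJ : ¬ Jel S ≤ pCoreOf 2 X

theorem Config.coreLe {S X U : Subgroup G} (c : Config S X U) : pCoreOf 2 X ≤ U := by
  obtain ⟨h1, h2, h3, -⟩ := coreTwo_spec X
  exact c.syl.le_of_normal h2 h1 h3

omit [Finite G] in
theorem le_normalizer_of_conj {X H : Subgroup G} [Finite G]
    (h : ∀ g ∈ X, ∀ v ∈ H, g * v * g⁻¹ ∈ H) : X ≤ Subgroup.normalizer (H : Set G) := fun g hg =>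
  CfsgLib.LocalEven.mem_normalizer_of_conj_mem (h g hg)

/-- Chain argument modulo a normalised subgroup. -/
theorem mem_of_chain_mod {C P : Subgroup G} {y i d : G} (hP : IsPGroup 2 P)
    (hPC : P ≤ Subgroup.normalizer (C : Set G)) (hy : Odd (orderOf y))
    (hyC : y ∈ Subgroup.normalizer (C : Set G)) (hd : d ∈ P) (hi : i ∈ P)
    (hid : y * d * y⁻¹ = i * d) (hyi : ⁅y, i⁆ ∈ C) : i ∈ C := by
  set N := Subgroup.normalizer (C : Set G)
  haveI : (C.subgroupOf N).Normal := Subgroup.normal_in_normalizer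
  set π := QuotientGroup.mk' (C.subgroupOf N)
  have h1 : ∀ z : N, π z = 1 ↔ (z : G) ∈ C := fun z => by
    rw [QuotientGroup.mk'_apply, QuotientGroup.eq_one_iff]; rfl
  refine (h1 ⟨i, hPC hi⟩).1 (eq_one_of_chain (x := π ⟨y, hyC⟩) (v := π ⟨d, hPC hd⟩) ?_ ?_ ?_
    ((hP.comap_subtype : IsPGroup 2 ↥(P.subgroupOf N)).map π) ⟨⟨i, hPC hi⟩, hi, rfl⟩)
  · exact hy.of_dvd_nat ((orderOf_map_dvd π _).trans (dvd_of_eq (Subgroup.orderOf_mk y hyC)))
  · rw [← mul_inv_eq_one, ← map_mul, ← map_inv, ← map_mul, ← map_inv, ← map_mul, h1]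
    rw [commutatorElement_def] at hyi
    exact hyi
  · rw [← map_mul, ← map_inv, ← map_mul, ← map_mul]
    exact congrArg π (Subtype.ext hid)

/-- A `2`-group `Q` has a central involution in each nontrivial normalised section. -/
theorem exists_central_step {Q D N : Subgroup G} (hQ : IsPGroup 2 Q) (hND : N < D) (hDQ : D ≤ Q)
    (hQD : Q ≤ Subgroup.normalizer (D : Set G)) (hQN : Q ≤ Subgroup.normalizer (N : Set G)) :
    ∃ w ∈ D, w ∉ N ∧ (∀ q ∈ Q, ⁅q, w⁆ ∈ N) ∧ w ^ 2 ∈ N := by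
  haveI : Fact (Nat.Prime 2) := ⟨Nat.prime_two⟩
  haveI : (D.subgroupOf Q).Normal := Subgroup.normal_subgroupOf_of_le_normalizer hQD
  haveI : (N.subgroupOf Q).Normal := Subgroup.normal_subgroupOf_of_le_normalizer hQN
  set π := QuotientGroup.mk' (N.subgroupOf Q)
  have h1 : ∀ z : Q, π z = 1 ↔ (z : G) ∈ N := fun z => by
    rw [QuotientGroup.mk'_apply, QuotientGroup.eq_one_iff]; rfl
  set Db := (D.subgroupOf Q).map π
  haveI : Db.Normal := Subgroup.Normal.map inferInstance π (QuotientGroup.mk'_surjective _)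
  have hQb : IsPGroup 2 (↥Q ⧸ N.subgroupOf Q) := hQ.to_quotient _
  have hne : Db ⊓ Subgroup.center _ ≠ ⊥ := CfsgLib.PGroups.inf_center_ne_bot hQb (by
    intro h
    obtain ⟨w, hwD, hwN⟩ := SetLike.exists_of_lt hND
    exact hwN ((h1 ⟨w, hDQ hwD⟩).1 (Subgroup.mem_bot.1 (h ▸ ⟨_, hwD, rfl⟩))))
  obtain ⟨z, hz, hz1⟩ := (Subgroup.bot_or_exists_ne_one _).resolve_left hne
  obtain ⟨k, hk⟩ := IsPGroup.iff_orderOf.1 hQb z
  obtain ⟨m, rfl⟩ : ∃ m, k = m + 1 := ⟨k - 1, by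
    rcases k with _ | k
    · exact absurd (orderOf_eq_one_iff.1 (by simpa using hk)) hz1
    · rfl⟩
  have hzm : z ^ 2 ^ m ≠ 1 := fun h => by
    have := Nat.le_of_dvd (by positivity) (orderOf_dvd_of_pow_eq_one h)
    rw [hk, pow_succ] at this
    have : 0 < 2 ^ m := Nat.two_pow_pos m
    omega
  obtain ⟨⟨⟨w, hwQ⟩, hwD, hw⟩, hwc⟩ := (Db ⊓ Subgroup.center _).pow_mem hz (2 ^ m)
  refine ⟨w, hwD, fun h => hzm (hw ▸ (h1 ⟨w, hwQ⟩).2 h), fun q hq => ?_, ?_⟩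
  · refine (h1 ⁅(⟨q, hq⟩ : Q), ⟨w, hwQ⟩⁆).1 ?_
    rw [map_commutatorElement, commutatorElement_eq_one_iff_mul_comm, hw]
    exact Subgroup.mem_center_iff.1 hwc _
  · refine (h1 (⟨w, hwQ⟩ ^ 2)).1 ?_
    rw [map_pow, hw, ← pow_mul, ← pow_succ, ← hk, pow_orderOf_eq_one]

/-- The derived-and-squares subgroup of a nontrivial section is proper. -/
theorem exists_central_maximal {Q D C : Subgroup G} (hQ : IsPGroup 2 Q) (hCD : C < D) (hDQ : D ≤ Q)
    (hQD : Q ≤ Subgroup.normalizer (D : Set G)) (hQC : Q ≤ Subgroup.normalizer (C : Set G)) :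
    ∃ M, C ≤ M ∧ M < D ∧ (∀ q ∈ Q, ∀ d ∈ D, ⁅q, d⁆ ∈ M) ∧ ∀ d ∈ D, d ^ 2 ∈ M := by
  classical
  obtain ⟨M, ⟨hCM, hMD, hQM⟩, hmax⟩ := Set.exists_max_image
    {M : Subgroup G | C ≤ M ∧ M < D ∧ Q ≤ Subgroup.normalizer (M : Set G)}
    (fun M => Nat.card M) (Set.toFinite _) ⟨C, le_rfl, hCD, hQC⟩
  obtain ⟨w, hwD, hwM, hwc, hw2⟩ := exists_central_step hQ hMD hDQ hQD hQM
  have hwn : Subgroup.zpowers w ≤ Subgroup.normalizer (M : Set G) :=
    Subgroup.zpowers_le.2 (hQM (hDQ hwD))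
  set M' := Subgroup.zpowers w ⊔ M with hM'
  have hcm : ∀ q ∈ Q, ∀ v ∈ M, ⁅q, v⁆ ∈ M := fun q hq v hv => by
    rw [commutatorElement_def]
    exact M.mul_mem ((Subgroup.mem_normalizer_iff.1 (hQM hq) v).1 hv) (M.inv_mem hv)
  let E : Subgroup G :=
    { carrier := {d | d ∈ Subgroup.normalizer (M : Set G) ∧ ∀ q ∈ Q, ⁅q, d⁆ ∈ M}
      one_mem' := ⟨Subgroup.one_mem _, fun q _ => by simp [commutatorElement_def]⟩
      mul_mem' := by
        rintro d e ⟨hd, hd'⟩ ⟨he, he'⟩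
        refine ⟨Subgroup.mul_mem _ hd he, fun q hq => ?_⟩
        have e1 : ⁅q, d * e⁆ = ⁅q, d⁆ * (d * ⁅q, e⁆ * d⁻¹) := by
          simp only [commutatorElement_def]; group
        rw [e1]
        exact M.mul_mem (hd' q hq) ((Subgroup.mem_normalizer_iff.1 hd _).1 (he' q hq))
      inv_mem' := by
        rintro d ⟨hd, hd'⟩
        refine ⟨Subgroup.inv_mem _ hd, fun q hq => ?_⟩
        have e1 : ⁅q, d⁻¹⁆ = d⁻¹ * ⁅q, d⁆⁻¹ * (d⁻¹)⁻¹ := by
          simp only [commutatorElement_def]; group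
        rw [e1]
        exact (Subgroup.mem_normalizer_iff.1 (Subgroup.inv_mem _ hd) _).1 (M.inv_mem (hd' q hq)) }
  have hM'E : M' ≤ E := sup_le (Subgroup.zpowers_le.2 ⟨hQM (hDQ hwD), hwc⟩)
    fun v hv => ⟨Subgroup.le_normalizer hv, fun q hq => hcm q hq v hv⟩
  have hM'D : M' ≤ D := sup_le (Subgroup.zpowers_le.2 hwD) hMD.le
  have hlt : M < M' := lt_of_le_of_ne le_sup_right fun h =>
    hwM (h ▸ Subgroup.mem_sup_left (Subgroup.mem_zpowers w))
  have hQM' : Q ≤ Subgroup.normalizer (M' : Set G) := le_normalizer_of_conj fun q hq d hd => by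
    have h1 := (hM'E hd).2 q hq
    rw [commutatorElement_def] at h1
    have e : q * d * q⁻¹ = q * d * q⁻¹ * d⁻¹ * d := by group
    rw [e]
    exact M'.mul_mem (Subgroup.mem_sup_right h1) hd
  have hD : M' = D := by
    by_contra hne
    exact hlt.ne (Subgroup.eq_of_le_of_card_ge hlt.le
      (hmax M' ⟨hCM.trans hlt.le, lt_of_le_of_ne hM'D hne, hQM'⟩))
  refine ⟨M, hCM, hMD, fun q hq d hd => (hM'E (hD ▸ hd)).2 q hq, fun d hd => ?_⟩
  obtain ⟨_, ⟨i, rfl⟩, v, hv, rfl⟩ := exists_mul_of_mem_sup hwn (hD.symm ▸ hd)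
  have e : (w ^ i * v) ^ 2 = (w ^ 2) ^ i * ((w ^ i)⁻¹ * v * ((w ^ i)⁻¹)⁻¹ * v) := by
    rw [show (w ^ 2) ^ i = w ^ i * w ^ i from by
      rw [← zpow_natCast, ← zpow_mul, ← zpow_add]; ring_nf, pow_two]
    group
  rw [e]
  refine M.mul_mem (M.zpow_mem hw2 i) (M.mul_mem ?_ hv)
  exact (Subgroup.mem_normalizer_iff.1 (Subgroup.inv_mem _ (hwn ⟨i, rfl⟩)) v).1 hv

/-- A section of `Q` on which some element of odd order acts nontrivially, all of them acting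
trivially below it modulo `Cq`. -/
structure Section (X Q Cq D D₁ : Subgroup G) : Prop where
  bot_le : Cq ≤ D₁
  le : D₁ ≤ D
  le_Q : D ≤ Q
  norm : X ≤ Subgroup.normalizer (D : Set G)
  norm₁ : X ≤ Subgroup.normalizer (D₁ : Set G)
  comm : ∀ q ∈ Q, ∀ d ∈ D, ⁅q, d⁆ ∈ D₁
  sq : ∀ d ∈ D, d ^ 2 ∈ D₁
  triv : ∀ y ∈ X, Odd (orderOf y) → ∀ d ∈ D₁, ⁅y, d⁆ ∈ Cq
  moved : ∃ y ∈ X, Odd (orderOf y) ∧ ∃ d ∈ D, ⁅y, d⁆ ∉ D₁

theorem exists_section {X Q Cq : Subgroup G} (hQX : Q ≤ X) (hQ : IsPGroup 2 Q)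
    (hXQ : X ≤ Subgroup.normalizer (Q : Set G)) (hXC : X ≤ Subgroup.normalizer (Cq : Set G))
    (hCQ : Cq ≤ Q) (h : ∃ y ∈ X, Odd (orderOf y) ∧ ∃ q ∈ Q, ⁅y, q⁆ ∉ Cq) :
    ∃ D D₁, Section X Q Cq D D₁ := by
  classical
  let P : Subgroup G → Prop := fun D => Cq ≤ D ∧ D ≤ Q ∧ X ≤ Subgroup.normalizer (D : Set G) ∧
    ∃ y ∈ X, Odd (orderOf y) ∧ ∃ d ∈ D, ⁅y, d⁆ ∉ Cq
  obtain ⟨D, ⟨hCD, hDQ, hXD, y, hyX, hy, d, hd, hyd⟩, hmin⟩ := Set.exists_min_image
    {D | P D} (fun D => Nat.card D) (Set.toFinite _) ⟨Q, hCQ, le_rfl, hXQ, h⟩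
  set s : Set G := (Cq : Set G) ∪
    ({x | ∃ q ∈ Q, ∃ d ∈ D, ⁅q, d⁆ = x} ∪ {x | ∃ d ∈ D, d ^ 2 = x})
  set D₁ := Subgroup.closure s with hD₁
  have hCDlt : Cq < D := lt_of_le_of_ne hCD fun e => hyd (by
    rw [commutatorElement_def, e]
    exact D.mul_mem ((Subgroup.mem_normalizer_iff.1 (hXD hyX) d).1 hd) (D.inv_mem hd))
  obtain ⟨M, hCM, hMD, hMc, hM2⟩ := exists_central_maximal hQ hCDlt hDQ
    (hQX.trans hXD) (hQX.trans hXC)
  have hD₁M : D₁ ≤ M := (Subgroup.closure_le _).2 (by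
    rintro x (hx | ⟨q, hq, e, he, rfl⟩ | ⟨e, he, rfl⟩)
    exacts [hCM hx, hMc q hq e he, hM2 e he])
  have hXD₁ : X ≤ Subgroup.normalizer (D₁ : Set G) := le_normalizer_of_conj fun g hg v hv => by
    refine (show D₁ ≤ D₁.comap (MulAut.conj g).toMonoidHom from (Subgroup.closure_le _).2 ?_) hv
    rintro x (hx | ⟨q, hq, e, he, rfl⟩ | ⟨e, he, rfl⟩)
    · exact Subgroup.subset_closure (Or.inl ((Subgroup.mem_normalizer_iff.1 (hXC hg) x).1 hx))
    · refine Subgroup.subset_closure (Or.inr (Or.inl ⟨g * q * g⁻¹,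
        (Subgroup.mem_normalizer_iff.1 (hXQ hg) q).1 hq, g * e * g⁻¹,
        (Subgroup.mem_normalizer_iff.1 (hXD hg) e).1 he, ?_⟩))
      exact (map_commutatorElement (MulAut.conj g).toMonoidHom q e).symm
    · refine Subgroup.subset_closure (Or.inr (Or.inr ⟨g * e * g⁻¹,
        (Subgroup.mem_normalizer_iff.1 (hXD hg) e).1 he, ?_⟩))
      rw [conj_pow]
      rfl
  have hD₁D : D₁ ≤ D := hD₁M.trans hMD.le
  have hC₁ : Cq ≤ D₁ := fun x hx => Subgroup.subset_closure (Or.inl hx)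
  have htriv : ∀ y ∈ X, Odd (orderOf y) → ∀ d ∈ D₁, ⁅y, d⁆ ∈ Cq := by
    intro y' hy' ho e he
    by_contra hne
    have h1 := hmin D₁ ⟨hC₁, hD₁D.trans hDQ, hXD₁, y', hy', ho, e, he, hne⟩
    exact hMD.ne (le_antisymm hMD.le ((Subgroup.eq_of_le_of_card_ge hD₁D h1).ge.trans hD₁M))
  refine ⟨D, D₁, hC₁, hD₁D, hDQ, hXD, hXD₁,
    fun q hq e he => Subgroup.subset_closure (Or.inr (Or.inl ⟨q, hq, e, he, rfl⟩)),
    fun e he => Subgroup.subset_closure (Or.inr (Or.inr ⟨e, he, rfl⟩)), htriv,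
    ⟨y, hyX, hy, d, hd, fun hmem => hyd ?_⟩⟩
  exact mem_of_chain_mod hQ (hQX.trans hXC) hy (hXC hyX) (hDQ hd) ((hD₁D.trans hDQ) hmem)
    (by rw [commutatorElement_def]; group) (htriv y hyX hy _ hmem)

/-- The elements acting trivially on `D / D₁`. -/
def sectCent (D D₁ : Subgroup G) : Subgroup G where
  carrier := {g | g ∈ Subgroup.normalizer (D₁ : Set G) ∧ ∀ d ∈ D, ⁅g, d⁆ ∈ D₁}
  one_mem' := ⟨Subgroup.one_mem _, fun d _ => by simp [commutatorElement_def]⟩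
  mul_mem' := by
    rintro g h ⟨hg, hg'⟩ ⟨hh, hh'⟩
    refine ⟨Subgroup.mul_mem _ hg hh, fun d hd => ?_⟩
    have e : ⁅g * h, d⁆ = g * ⁅h, d⁆ * g⁻¹ * ⁅g, d⁆ := by simp only [commutatorElement_def]; group
    rw [e]
    exact D₁.mul_mem ((Subgroup.mem_normalizer_iff.1 hg _).1 (hh' d hd)) (hg' d hd)
  inv_mem' := by
    rintro g ⟨hg, hg'⟩
    refine ⟨Subgroup.inv_mem _ hg, fun d hd => ?_⟩
    have e : ⁅g⁻¹, d⁆ = g⁻¹ * ⁅g, d⁆⁻¹ * (g⁻¹)⁻¹ := by simp only [commutatorElement_def]; group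
    rw [e]
    exact (Subgroup.mem_normalizer_iff.1 (Subgroup.inv_mem _ hg) _).1 (D₁.inv_mem (hg' d hd))

variable {S X U Cq D D₁ : Subgroup G}

theorem Section.core_le (hs : Section X (pCoreOf 2 X) Cq D D₁) :
    pCoreOf 2 X ≤ sectCent D D₁ :=
  fun q hq => ⟨hs.norm₁ ((coreTwo_spec X).1 hq), fun d hd => hs.comm q hq d hd⟩

theorem Section.norm_cent (hs : Section X (pCoreOf 2 X) Cq D D₁) :
    X ≤ Subgroup.normalizer ((X ⊓ sectCent D D₁ : Subgroup G) : Set G) :=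
  le_normalizer_of_conj fun x hx g hg => by
    refine ⟨X.mul_mem (X.mul_mem hx hg.1) (X.inv_mem hx), hs.norm₁
      (X.mul_mem (X.mul_mem hx hg.1) (X.inv_mem hx)), fun d hd => ?_⟩
    have hd' : x⁻¹ * d * x ∈ D := by
      simpa using (Subgroup.mem_normalizer_iff.1 (hs.norm (X.inv_mem hx)) d).1 hd
    have e : ⁅x * g * x⁻¹, d⁆ = x * ⁅g, x⁻¹ * d * x⁆ * x⁻¹ := by
      simp only [commutatorElement_def]; group
    rw [e]
    exact (Subgroup.mem_normalizer_iff.1 (hs.norm₁ hx) _).1 (hg.2.2 _ hd')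

theorem Section.inf_le (hs : Section X (pCoreOf 2 X) Cq D D₁) (c : Reduced S X U) :
    U ⊓ (X ⊓ sectCent D D₁) ≤ pCoreOf 2 X := by
  rcases c.dicho _ inf_le_left hs.norm_cent with h | h
  · obtain ⟨y, hy, ho, d, hd, hyd⟩ := hs.moved
    exact absurd ((h y hy ho).2.2 d hd) hyd
  · exact h

/-- The image of `H` in `N(D₁)/D₁`. -/
def sectImg (D₁ H : Subgroup G) :
    Subgroup (↥(Subgroup.normalizer (D₁ : Set G)) ⧸
      D₁.subgroupOf (Subgroup.normalizer (D₁ : Set G))) :=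
  (H.subgroupOf (Subgroup.normalizer (D₁ : Set G))).map (QuotientGroup.mk' _)

omit [Finite G] in
theorem sect_mk_eq_one {D₁ : Subgroup G} (z : ↥(Subgroup.normalizer (D₁ : Set G))) :
    QuotientGroup.mk' (D₁.subgroupOf (Subgroup.normalizer (D₁ : Set G))) z = 1 ↔ (z : G) ∈ D₁ := by
  rw [QuotientGroup.mk'_apply, QuotientGroup.eq_one_iff]; rfl

theorem Section.sub_norm (hs : Section X (pCoreOf 2 X) Cq D D₁) :
    D ≤ Subgroup.normalizer (D₁ : Set G) :=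
  (hs.le_Q.trans (coreTwo_spec X).1).trans hs.norm₁

omit [Finite G] in
theorem el_sectImg {D₁ H : Subgroup G} (hH : H ≤ Subgroup.normalizer (D₁ : Set G))
    (hc : ∀ a ∈ H, ∀ b ∈ H, ⁅a, b⁆ ∈ D₁) (h2 : ∀ a ∈ H, a ^ 2 ∈ D₁) :
    IsElementaryAbelian 2 (sectImg D₁ H) := by
  refine ⟨⟨⟨?_⟩⟩, ?_⟩
  · rintro ⟨_, a, ha, rfl⟩ ⟨_, b, hb, rfl⟩
    refine Subtype.ext ?_
    show QuotientGroup.mk' _ a * QuotientGroup.mk' _ b = QuotientGroup.mk' _ b * QuotientGroup.mk' _ a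
    rw [← commutatorElement_eq_one_iff_mul_comm, ← map_commutatorElement, sect_mk_eq_one]
    exact hc _ ha _ hb
  · rintro _ ⟨a, ha, rfl⟩
    rw [← map_pow, sect_mk_eq_one]
    exact h2 _ ha

theorem Section.el_img (hs : Section X (pCoreOf 2 X) Cq D D₁) :
    IsElementaryAbelian 2 (sectImg D₁ D) :=
  el_sectImg hs.sub_norm (fun _ ha b hb => hs.comm _ (hs.le_Q ha) b hb) hs.sq

theorem Section.img_le_normalizer (hs : Section X (pCoreOf 2 X) Cq D D₁) :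
    sectImg D₁ X ≤ Subgroup.normalizer (sectImg D₁ D : Set _) := by
  rintro _ ⟨x, hx, rfl⟩
  refine CfsgLib.LocalEven.mem_normalizer_of_conj_mem ?_
  rintro _ ⟨d, hd, rfl⟩
  exact ⟨x * d * x⁻¹, (Subgroup.mem_normalizer_iff.1 (hs.norm hx) (d : G)).1 hd, by simp⟩

theorem Section.mem_cent_img (hs : Section X (pCoreOf 2 X) Cq D D₁)
    (g : ↥(Subgroup.normalizer (D₁ : Set G))) :
    QuotientGroup.mk' (D₁.subgroupOf (Subgroup.normalizer (D₁ : Set G))) g ∈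
      Subgroup.centralizer (sectImg D₁ D : Set _) ↔ (g : G) ∈ sectCent D D₁ := by
  constructor
  · refine fun h => ⟨g.2, fun d hd => ?_⟩
    refine (sect_mk_eq_one ⁅g, (⟨d, hs.sub_norm hd⟩ : ↥(Subgroup.normalizer (D₁ : Set G)))⁆).1 ?_
    rw [map_commutatorElement, commutatorElement_eq_one_iff_mul_comm]
    exact (Subgroup.mem_centralizer_iff.1 h _ ⟨_, hd, rfl⟩).symm
  · intro h
    refine Subgroup.mem_centralizer_iff.2 ?_
    rintro _ ⟨d, hd, rfl⟩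
    refine (commutatorElement_eq_one_iff_mul_comm.1 ?_).symm
    rw [← map_commutatorElement, sect_mk_eq_one]
    exact h.2 _ hd

theorem Section.red (hs : Section X (pCoreOf 2 X) Cq D D₁) (c : Reduced S X U) :
    Red (sectImg D₁ X) (sectImg D₁ D) := by
  set N₁ := Subgroup.normalizer (D₁ : Set G)
  set π := QuotientGroup.mk' (D₁.subgroupOf N₁)
  intro R hR hXR hk
  set R₀ := (R.comap π).map N₁.subtype ⊓ X
  have hXR₀ : X ≤ Subgroup.normalizer (R₀ : Set G) := le_normalizer_of_conj fun x hx v hv => by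
    obtain ⟨⟨r, hr, rfl⟩, hvX⟩ := hv
    refine ⟨⟨(⟨x, hs.norm₁ hx⟩ : N₁) * r * (⟨x, hs.norm₁ hx⟩ : N₁)⁻¹, ?_, rfl⟩,
      X.mul_mem (X.mul_mem hx hvX) (X.inv_mem hx)⟩
    show π _ ∈ R
    rw [map_mul, map_mul, map_inv]
    exact (Subgroup.mem_normalizer_iff.1 (hXR ⟨⟨x, hs.norm₁ hx⟩, hx, rfl⟩) _).1 hr
  have hodd : ∀ r ∈ R₀, Odd (orderOf r) → r ∈ sectCent D D₁ := by
    rintro _ ⟨⟨r, hr, rfl⟩, hrX⟩ ho
    obtain ⟨k, hk'⟩ := hk (π r) hr
    rw [← map_pow, hs.mem_cent_img] at hk'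
    exact mem_of_pow_two_pow_mem ho hk'
  rcases c.dicho R₀ inf_le_right hXR₀ with h | h
  · obtain ⟨y, hy, ho, d, hd, hyd⟩ := hs.moved
    exact absurd ((hodd y (h y hy ho) ho).2 d hd) hyd
  · have hle : R₀ ≤ sectCent D D₁ :=
      le_of_syl_of_odd (c.syl.inf_normal inf_le_right hXR₀) (h.trans hs.core_le) hodd
    intro z hz
    obtain ⟨x, hx, rfl⟩ := hR hz
    exact (hs.mem_cent_img x).2 (hle ⟨⟨x, hz, rfl⟩, hx⟩)

theorem free_sect {D₁ : Subgroup G} (hfree : ¬ Involves (Equiv.Perm (Fin 4)) G) :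
    ¬ Involves (Equiv.Perm (Fin 4)) (↥(Subgroup.normalizer (D₁ : Set G)) ⧸
      D₁.subgroupOf (Subgroup.normalizer (D₁ : Set G))) := fun h =>
  hfree (CfsgLib.Fusion.involves_of_injective _ (Subgroup.subtype_injective _)
    (CfsgLib.Fusion.involves_of_quotient _ (QuotientGroup.mk'_surjective _) h))

theorem Section.comp_img (hs : Section X (pCoreOf 2 X) Cq D D₁) (c : Reduced S X U) :
    CompSzL2 ↥(sectImg D₁ X) := by
  refine c.comp.of_surjective (((QuotientGroup.mk' _).comp (Subgroup.inclusion hs.norm₁)).codRestrict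
    _ fun x => ⟨_, x.2, rfl⟩) ?_
  rintro ⟨_, x, hx, rfl⟩
  exact ⟨⟨x, hx⟩, rfl⟩

/-- All elements of odd order centralise `Z(O₂(X))`. -/
theorem Reduced.odd_center (c : Reduced S X U) :
    ∀ y ∈ X, Odd (orderOf y) → y ∈ Subgroup.centralizer
      ((pCoreOf 2 X ⊓ Subgroup.centralizer (pCoreOf 2 X : Set G) : Subgroup G) : Set G) := by
  obtain ⟨hQX, hQ2, hXQ, -⟩ := coreTwo_spec X
  set Q := pCoreOf 2 X
  set Z := Q ⊓ Subgroup.centralizer (Q : Set G)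
  have hZn : X ≤ Subgroup.normalizer (Z : Set G) :=
    le_normalizer_of_le_inf hXQ (le_normalizer_centralizer hXQ)
  have hZab : Z ≤ Subgroup.centralizer (Z : Set G) :=
    inf_le_right.trans (Subgroup.centralizer_le inf_le_left)
  set M := omegaOne 2 Z
  have hMel : IsElementaryAbelian 2 M := el_omegaOne hZab
  have hMn : X ≤ Subgroup.normalizer (M : Set G) := omegaOne_normal' hZn
  intro y hy ho
  refine centralizes_of_omega ho (hQ2.to_le inf_le_left) hZab (hZn hy) ?_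
  by_contra hne
  have hQM : Q ≤ Subgroup.centralizer (M : Set G) :=
    Subgroup.le_centralizer_iff.1 ((omegaOne_le' Z).trans inf_le_right)
  have hred : Red X M := by
    intro R hR hXR hk
    rcases c.dicho R hR hXR with h | h
    · obtain ⟨k, hk'⟩ := hk y (h y hy ho)
      exact absurd (mem_of_pow_two_pow_mem ho hk') hne
    · exact le_of_syl_of_odd (c.syl.inf_normal hR hXR) (h.trans hQM) fun r hr hor => by
        obtain ⟨k, hk'⟩ := hk r hr
        exact mem_of_pow_two_pow_mem hor hk'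
  have hMS : M ≤ S := (omegaOne_le' Z).trans (inf_le_left.trans (c.coreLe.trans c.hUS))
  have hA : ∀ A, MaxEl S A → A ≤ Subgroup.centralizer (M : Set G) := fun A hA =>
    maxEl_le_centralizer_of_sq hA hMel hMS (mod_bound c.free c.comp hMel hMn hred
      ((hA.le_Jel.trans c.jel).trans c.syl.le) (elImg_of_el hA.el)).1
  rcases c.dicho _ inf_le_left (le_normalizer_self_inf (le_normalizer_centralizer hMn)) with h | h
  · exact hne (h y hy ho).2
  · exact c.notJ ((sSup_le fun A hA' => le_inf (hA'.le_Jel.trans c.jel)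
      (le_inf ((hA'.le_Jel.trans c.jel).trans c.syl.le) (hA A hA'))).trans h)

end CfsgLib.LocalEven.TwoFactor
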