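import Cfsg.Agent.Lib.LocalEven.SzL2Offender.Bound
import Cfsg.Agent.Lib.FT.OddOrderTheorem

/-!
Inheritance of the condition on the composition factors.
-/

set_option autoImplicit false
set_option linter.style.haveILetI false

universe u

namespace CfsgLib.LocalEven.TwoFactor

open Cfsg

/-- The condition on the composition factors. -/
abbrev CompSzL2 (X : Type u) [Group X] : Prop :=
  IsCompositionKGroupWith IsSuzukiOrPSL2OddPowerThree X

variable {X Y : Type u} [Group X] [Group Y]

theorem suz_of_equiv {A B : Type u} [Group A] [Group B] (e : A ≃* B)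
    (h : IsSuzukiOrPSL2OddPowerThree A) : IsSuzukiOrPSL2OddPowerThree B := by
  rcases h with ⟨F, i₁, i₂, m, hm, hF, ⟨f⟩⟩ | ⟨F, i₁, i₂, n, hF, ⟨f⟩⟩
  · exact Or.inl ⟨F, i₁, i₂, m, hm, hF, ⟨e.symm.trans f⟩⟩
  · exact Or.inr ⟨F, i₁, i₂, n, hF, ⟨e.symm.trans f⟩⟩

/-- A non-abelian simple image of a subnormal subgroup is one of the factors. -/
theorem CompSzL2.apply (h : CompSzL2 X) {H : Subgroup X} (hH : H.IsSubnormal) {S : Type u} [Group S]
    (f : H →* S) (hf : Function.Surjective f) (hS : IsSimpleGroup S) (hnc : ¬ IsMulCommutative S) :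
    IsSuzukiOrPSL2OddPowerThree S := by
  set e := QuotientGroup.quotientKerEquivOfSurjective f hf
  refine suz_of_equiv e (h H hH f.ker (e.isSimpleGroup_congr.2 hS) fun hc => hnc ⟨⟨fun a b => ?_⟩⟩)
  apply e.symm.injective
  rw [map_mul, map_mul]
  exact hc.1.1 _ _

theorem CompSzL2.of_surjective (h : CompSzL2 X) (f : X →* Y) (hf : Function.Surjective f) :
    CompSzL2 Y := by
  intro H hH N _ hS hnc
  let g : ↥(H.comap f) →* H :=
    MonoidHom.mk' (fun x => ⟨f x, x.2⟩) fun a b => Subtype.ext (map_mul f _ _)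
  refine h.apply (hH.comap f) ((QuotientGroup.mk' N).comp g)
    ((QuotientGroup.mk'_surjective N).comp fun y => ?_) hS hnc
  obtain ⟨x, hx⟩ := hf y
  exact ⟨⟨x, show f x ∈ H from hx ▸ y.2⟩, Subtype.ext hx⟩

theorem CompSzL2.of_injective (h : CompSzL2 X) (f : Y →* X) (hf : Function.Injective f)
    (hn : f.range.Normal) : CompSzL2 Y := by
  intro H hH N _ hS hnc
  have hsub : (H.map f).IsSubnormal := by
    refine Subgroup.IsSubnormal.trans (Subgroup.map_le_range f H) ?_ hn.isSubnormal
    have e : (H.map f).subgroupOf f.range = H.map f.rangeRestrict := by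
      ext ⟨x, hx⟩
      constructor
      · rintro ⟨y, hy, e⟩
        exact ⟨y, hy, Subtype.ext e⟩
      · rintro ⟨y, hy, e⟩
        exact ⟨y, hy, congrArg Subtype.val e⟩
    rw [e]
    exact hH.map f.rangeRestrict_surjective
  exact h.apply hsub ((QuotientGroup.mk' N).comp (H.equivMapOfInjective f hf).symm.toMonoidHom)
    ((QuotientGroup.mk'_surjective N).comp (H.equivMapOfInjective f hf).symm.surjective) hS hnc

theorem CompSzL2.of_solvable [Finite X] [hX : Group.IsSolvable X] : CompSzL2 X := by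
  intro H hH N _ hS hnc
  exfalso
  haveI := hS
  exact hnc (isMulCommutative_iff.2 (IsSimpleGroup.comm_iff_isSolvable.2 inferInstance))

/-- Extensions. -/
theorem CompSzL2.ext' [Finite X] (f : X →* Y) (hk : CompSzL2 ↥f.ker) (hr : CompSzL2 ↥f.range) :
    CompSzL2 X := by
  intro H hH M _ hS hnc
  set q := QuotientGroup.mk' M
  set H₁ : Subgroup H := f.ker.subgroupOf H
  haveI : H₁.Normal := Subgroup.Normal.subgroupOf inferInstance H
  haveI : (H₁.map q).Normal := Subgroup.Normal.map inferInstance q (QuotientGroup.mk'_surjective M)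
  rcases Subgroup.Normal.eq_bot_or_eq_top (inferInstance : (H₁.map q).Normal) with hb | ht
  · let g : H →* f.range := f.rangeRestrict.comp H.subtype
    have hker : g.ker ≤ q.ker := fun x hx => by
      have hx' : x ∈ H₁ := congrArg Subtype.val hx
      exact Subgroup.mem_bot.1 (hb ▸ ⟨x, hx', rfl⟩)
    have hsub : g.range.IsSubnormal := by
      have e : g.range = H.map f.rangeRestrict := by
        rw [MonoidHom.range_comp, Subgroup.range_subtype]
      rw [e]
      exact hH.map f.rangeRestrict_surjective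
    refine hr.apply hsub ((QuotientGroup.lift g.ker q hker).comp
      (QuotientGroup.quotientKerEquivRange g).symm.toMonoidHom) (fun z => ?_) hS hnc
    obtain ⟨x, hx⟩ := QuotientGroup.mk'_surjective M z
    refine ⟨QuotientGroup.quotientKerEquivRange g x, ?_⟩
    rw [MonoidHom.comp_apply, MulEquiv.coe_toMonoidHom, MulEquiv.symm_apply_apply,
      QuotientGroup.lift_mk]
    exact hx
  · let k : ↥(H.subgroupOf f.ker) →* H ⧸ M :=
      q.comp (MonoidHom.mk' (fun x => (⟨(x : f.ker), x.2⟩ : H)) fun _ _ => rfl)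
    refine hk.apply hH.subgroupOf k (fun z => ?_) hS hnc
    obtain ⟨⟨x, hx⟩, hx', rfl⟩ := (ht.symm ▸ Subgroup.mem_top z : z ∈ H₁.map q)
    exact ⟨⟨⟨x, hx'⟩, hx⟩, rfl⟩

variable {G : Type u} [Group G] [Finite G]

theorem CompSzL2.of_le_normal {X K : Subgroup G} (h : CompSzL2 ↥X) (hKX : K ≤ X)
    (hXK : X ≤ Subgroup.normalizer (K : Set G)) : CompSzL2 ↥K := by
  refine h.of_injective (Subgroup.inclusion hKX) (Subgroup.inclusion_injective hKX) ?_
  rw [Subgroup.inclusion_range]
  exact Subgroup.normal_subgroupOf_of_le_normalizer hXK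

/-- A group with a normal Sylow `2`-subgroup is solvable. -/
theorem isSolvable_of_normal_two {Y : Type u} [Group Y] [Finite Y] (P : Subgroup Y) [P.Normal]
    (hP : IsPGroup 2 P) (hodd : ¬ 2 ∣ P.index) : Group.IsSolvable Y := by
  haveI : Fact (Nat.Prime 2) := ⟨Nat.prime_two⟩
  haveI := hP.isNilpotent
  have h1 : Group.IsSolvable (Y ⧸ P) := CfsgLib.FT.isSolvable_of_odd
    (by rw [← Subgroup.index_eq_card]; exact Nat.odd_iff.2 (by omega))
  exact (Group.isSolvable_iff_subgroup_quotient P).2 ⟨inferInstance, h1⟩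

end CfsgLib.LocalEven.TwoFactor
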