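import Cfsg.Agent.Lib.LocalEven.Factor.CaseTwo

/-!
The induction proving `G = C(Ω₁(Z(Ĵ(S)))) N(J_e(S))`.
-/

set_option autoImplicit false
set_option linter.style.haveILetI false

universe u

namespace CfsgLib.LocalEven.TwoFactor

open Cfsg CfsgLib.LocalEven.S4W CfsgLib.Techniques
open CfsgLib.LocalEven.SzL2 (exists_mul_of_mem_sup)
open scoped commutatorElement

variable {G : Type u} [Group G] [Finite G]

/-- The factorization inside `X`. -/
def Factors (S X : Subgroup G) : Prop :=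
  ∀ g ∈ X, ∃ c ∈ X, c ∈ Subgroup.centralizer (Zh S : Set G) ∧
    c⁻¹ * g ∈ Subgroup.normalizer (Jel S : Set G)

/-- Odd elements of `K ⊔ U` lie in `K`. -/
theorem odd_mem_of_sup {K U : Subgroup G} (hU : IsPGroup 2 U)
    (hUK : U ≤ Subgroup.normalizer (K : Set G)) {y : G} (hy : y ∈ U ⊔ K) (ho : Odd (orderOf y)) :
    y ∈ K := by
  set N := Subgroup.normalizer (K : Set G)
  haveI : (K.subgroupOf N).Normal := Subgroup.normal_in_normalizer
  set π := QuotientGroup.mk' (K.subgroupOf N)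
  obtain ⟨u, hu, k, hk, rfl⟩ := exists_mul_of_mem_sup hUK hy
  have hk1 : π ⟨k, Subgroup.le_normalizer hk⟩ = 1 := by
    rw [QuotientGroup.mk'_apply, QuotientGroup.eq_one_iff]; exact hk
  set z : N := ⟨u, hUK hu⟩ * ⟨k, Subgroup.le_normalizer hk⟩ with hz
  have h1 : π z ∈ (U.subgroupOf N).map π := by
    rw [hz, map_mul, hk1, mul_one]
    exact ⟨_, hu, rfl⟩
  have ho' : Odd (orderOf (π z)) :=
    ho.of_dvd_nat ((orderOf_map_dvd π z).trans (dvd_of_eq (Subgroup.orderOf_coe z).symm))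
  have h2 := eq_one_of_odd_of_isPGroup ((hU.comap_subtype : IsPGroup 2 ↥(U.subgroupOf N)).map π) h1 ho'
  rw [QuotientGroup.mk'_apply, QuotientGroup.eq_one_iff] at h2
  exact h2

variable {S X U K : Subgroup G}

/-- Reduction to a normal subgroup containing the members and `J_e(S)`. -/
theorem factors_of_normal (c : Config S X U) (hKX : K ≤ X)
    (hXK : X ≤ Subgroup.normalizer (K : Set G)) (hJ : Jel S ≤ K) (hf : Factors S K) :
    Factors S X := by
  intro g hg
  obtain ⟨k, hk, n, -, hn, rfl⟩ := c.syl.frattini hKX hXK hg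
  obtain ⟨z, hz, hzC, hzN⟩ := hf k hk
  refine ⟨z, hKX hz, hzC, ?_⟩
  rw [← mul_assoc]
  exact Subgroup.mul_mem _ hzN (mem_normalizer_jel (inf_le_left.trans c.hUS)
    (fun A hA => le_inf (hA.le_Jel.trans c.jel) (hA.le_Jel.trans hJ)) hn)

/-- The case of `U` an E-group. -/
theorem factors_of_eg (c : Config S X U) (hE : EG U) : Factors S X := by
  obtain ⟨hQX, hQ2, hXQ, -⟩ := coreTwo_spec X
  set Q := pCoreOf 2 X
  have hQU := c.coreLe
  have hmem : Member S U := ⟨c.hUS, hE, c.jel⟩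
  have hJh : Jh S = U := le_antisymm (sSup_le fun M hM => c.mem M hM) (le_sSup hmem)
  set Z := U ⊓ Subgroup.centralizer (U : Set G)
  have hZh : Zh S = omegaOne 2 Z := by rw [Zh, hJh]
  have hZQ : Z ≤ Q ⊓ Subgroup.centralizer (Q : Set G) := by
    have h1 : Z ≤ Subgroup.centralizer (Q : Set G) := inf_le_right.trans (cen_le hQU)
    exact le_inf ((le_inf (inf_le_left.trans c.syl.le) h1).trans c.char2) h1
  have hZab : Z ≤ Subgroup.centralizer (Z : Set G) := inf_le_right.trans (cen_le inf_le_left)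
  have hel₁ : IsElementaryAbelian 2 (Zh S) := hZh ▸ el_omegaOne hZab
  have hZhZ : Zh S ≤ Z := hZh ▸ omegaOne_le' Z
  have hXZQ : X ≤ Subgroup.normalizer ((Q ⊓ Subgroup.centralizer (Q : Set G) : Subgroup G) : Set G) :=
    le_normalizer_of_le_inf hXQ (le_normalizer_centralizer hXQ)
  set M := ⨆ g : X, cj (g : G) (Zh S) with hM
  have hMel : IsElementaryAbelian 2 M := el_iSup_cj hel₁ fun g hg =>
    ((cj_mono (hZhZ.trans hZQ)).trans (mem_normalizer_iff_cj.1 (hXZQ hg)).le).trans
      (inf_le_right.trans (cen_le (hZhZ.trans (hZQ.trans inf_le_left))))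
  have hMQ : M ≤ Q := iSup_le fun g =>
    ((cj_mono (hZhZ.trans (hZQ.trans inf_le_left))).trans (mem_normalizer_iff_cj.1 (hXQ g.2)).le)
  have hMn : X ≤ Subgroup.normalizer (M : Set G) := iSup_cj_normal (Zh S)
  have hle : Zh S ≤ M := le_trans (le_of_eq (cj_one _).symm) (le_iSup (fun g : X => cj (g : G) (Zh S)) 1)
  have hred : Red X M := by
    intro R hR hXR hk
    refine le_centralizer_iSup_cj hXR (le_of_syl_of_odd (c.syl.inf_normal hR hXR)
      (inf_le_left.trans (Subgroup.le_centralizer_iff.1 (hZhZ.trans inf_le_right))) fun r hr ho => ?_)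
    obtain ⟨k, hk'⟩ := hk r hr
    exact cen_le hle (mem_of_pow_two_pow_mem ho hk')
  set K := X ⊓ Subgroup.centralizer (M : Set G) with hK
  have hbd : ∀ R ≤ U, ElImg M R → _ := fun R hR hi =>
    mod_bound c.free c.comp hMel hMn hred (hR.trans c.syl.le) hi
  have hUC : U ≤ Subgroup.centralizer (M : Set G) :=
    hE M (hMQ.trans hQU) (c.syl.le.trans hMn) hMel (propV_of_bound hbd)
  have hXK : X ≤ Subgroup.normalizer (K : Set G) :=
    le_normalizer_self_inf (le_normalizer_centralizer hMn)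
  intro g hg
  obtain ⟨k, hk, n, -, hn, rfl⟩ := c.syl.frattini (inf_le_left : K ≤ X) hXK hg
  refine ⟨k, hk.1, cen_le hle hk.2, ?_⟩
  rw [inv_mul_cancel_left]
  exact mem_normalizer_jel (inf_le_left.trans c.hUS)
    (fun A hA => le_inf (hA.le_Jel.trans c.jel)
      ((hA.le_Jel.trans c.jel).trans (le_inf c.syl.le hUC))) hn

/-- `G = C(Ω₁(Z(Ĵ(S)))) N(J_e(S))` in every subgroup carrying the configuration. -/
theorem factors_of_config : ∀ (N : ℕ) (X U : Subgroup G), Nat.card X ≤ N → Config S X U →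
    Factors S X := by
  classical
  intro N
  induction N with
  | zero => intro X U h; exact absurd h (by have := Nat.card_pos (α := X); omega)
  | succ N ih =>
  intro X U hN c
  obtain ⟨hQX, hQ2, hXQ, hQmax⟩ := coreTwo_spec X
  set Q := pCoreOf 2 X with hQdef
  have hQU : Q ≤ U := c.coreLe
  by_cases hJQ : Jel S ≤ Q
  · refine fun g hg => ⟨1, X.one_mem, Subgroup.one_mem _, ?_⟩
    rw [inv_one, one_mul]
    exact mem_normalizer_jel (hQU.trans c.hUS) (fun A hA => hA.le_Jel.trans hJQ) (hXQ hg)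
  by_cases hE : EG U
  · exact factors_of_eg c hE
  obtain ⟨V, o⟩ : ∃ V, Offended U V := by
    simp only [EG] at hE
    push Not at hE
    obtain ⟨V, h1, h2, h3, h4, h5⟩ := hE
    exact ⟨V, h1, h2, h3, h4, h5⟩
  have hsmall : ∀ Y : Subgroup G, Y ≤ X → Y ≠ X → Nat.card Y ≤ N := fun Y hY hne => by
    have h1 : Nat.card Y < Nat.card X := lt_of_le_of_ne (Subgroup.card_le_of_le hY) fun h =>
      hne (Subgroup.eq_of_le_of_card_ge hY h.ge)
    omega
  -- a proper normal subgroup containing the members and `J_e(S)`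
  have hR1 : ∀ K, K ≤ X → K ≠ X → X ≤ Subgroup.normalizer (K : Set G) → Jel S ≤ K →
      (∀ M, Member S M → M ≤ K) → Factors S X := by
    intro K hKX hne hXK hJ hM
    refine factors_of_normal c hKX hXK hJ (ih K (U ⊓ K) (hsmall K hKX hne)
      ⟨c.free, c.hS, c.syl.inf_normal hKX hXK, inf_le_left.trans c.hUS, c.comp.of_le_normal hKX hXK,
        c.char2.of_normal hKX hXK, le_inf c.jel hJ, fun M hM' => le_inf (c.mem M hM') (hM M hM')⟩)
  by_cases hdi : ∀ K ≤ X, X ≤ Subgroup.normalizer (K : Set G) →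
      (∀ y ∈ X, Odd (orderOf y) → y ∈ K) ∨ U ⊓ K ≤ Q
  · -- both reductions have been made
    have c' : Reduced S X U := ⟨c, hdi, hJQ⟩
    have hVQ : V ≤ Q := le_core_of_offended c' o
    have hodd := odd_centralizes_of_le_core c' o hVQ
    have hXV : X ≤ Subgroup.normalizer (V : Set G) := le_of_syl_of_odd c.syl o.norm fun y hy ho =>
      Subgroup.centralizer_le_normalizer _ (hodd y hy ho)
    have hAV : ∀ A, MaxEl S A → A ≤ Subgroup.centralizer (V : Set G) := fun A hA =>
      maxEl_le_centralizer_of_propV hA (hA.le_Jel.trans c.jel) o.el (o.le.trans c.hUS) o.prop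
    obtain ⟨A, hA⟩ := exists_maxEl S
    have hVA : V ≤ A := maxEl_absorb hA o.el (o.le.trans c.hUS) (hAV A hA)
    refine hR1 (X ⊓ Subgroup.centralizer (V : Set G)) inf_le_left
      (fun h => o.nc (c.syl.le.trans (h.ge.trans inf_le_right)))
      (le_normalizer_self_inf (le_normalizer_centralizer hXV))
      (sSup_le fun A' hA' => le_inf ((hA'.le_Jel.trans c.jel).trans c.syl.le) (hAV A' hA'))
      fun M hM => le_inf ((c.mem M hM).trans c.syl.le)
        (hM.eg V (hVA.trans (hA.le_Jel.trans hM.jel)) ((c.mem M hM).trans o.norm) o.el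
          fun R hR => o.prop R (hR.trans (c.mem M hM)))
  · -- `X = N_X(U ∩ K) K`
    push Not at hdi
    obtain ⟨K, hKX, hXK, ⟨y, hyX, hyo, hyK⟩, hUKQ⟩ := hdi
    set P := U ⊓ K with hP
    set Nx := X ⊓ Subgroup.normalizer (P : Set G) with hNx
    have hUN : U ≤ Nx := le_inf c.syl.le
      (le_normalizer_of_le_inf Subgroup.le_normalizer (c.syl.le.trans hXK))
    have hNne : Nx ≠ X := fun h => hUKQ (hQmax P (inf_le_left.trans c.syl.le)
      (c.syl.two.to_le inf_le_left) (h.ge.trans inf_le_right))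
    set Y := U ⊔ K with hY
    have hYX : Y ≤ X := sup_le c.syl.le hKX
    have hYne : Y ≠ X := fun h =>
      hyK (odd_mem_of_sup c.syl.two (c.syl.le.trans hXK) (h.ge hyX) hyo)
    have hfr : ∀ g ∈ X, ∃ k ∈ K, ∃ n ∈ Nx, g = k * n := fun g hg => by
      obtain ⟨k, hk, n, hnX, hn, e⟩ := c.syl.frattini hKX hXK hg
      exact ⟨k, hk, n, ⟨hnX, hn⟩, e⟩
    haveI : (K.subgroupOf X).Normal := Subgroup.normal_subgroupOf_of_le_normalizer hXK
    set π := QuotientGroup.mk' (K.subgroupOf X)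
    have hNcomp : CompSzL2 ↥Nx := by
      let f : ↥Nx →* ↥X ⧸ K.subgroupOf X := π.comp (Subgroup.inclusion inf_le_left)
      have hfs : Function.Surjective f := by
        intro z
        obtain ⟨⟨g, hg⟩, rfl⟩ := QuotientGroup.mk'_surjective _ z
        obtain ⟨k, hk, n, hn, e⟩ := hfr g hg
        refine ⟨⟨n, hn⟩, ?_⟩
        show π ⟨n, hn.1⟩ = π ⟨g, hg⟩
        have e' : (⟨g, hg⟩ : ↥X) = ⟨k, hKX hk⟩ * ⟨n, hn.1⟩ := Subtype.ext e
        have hk1 : π ⟨k, hKX hk⟩ = 1 := by
          rw [QuotientGroup.mk'_apply, QuotientGroup.eq_one_iff]; exact hk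
        rw [e', map_mul, hk1, one_mul]
      refine CompSzL2.ext' f ?_ ((c.comp.of_surjective π (QuotientGroup.mk'_surjective _)).of_surjective
        (MonoidHom.id _ |>.codRestrict f.range fun z => hfs z) ?_)
      · set Kn := K ⊓ Nx
        haveI : (P.subgroupOf Kn).Normal :=
          Subgroup.normal_subgroupOf_of_le_normalizer (inf_le_right.trans inf_le_right)
        haveI : Group.IsSolvable ↥Kn := isSolvable_of_normal_two (P.subgroupOf Kn)
          (c.syl.two.to_le (inf_le_left : P ≤ U)).comap_subtype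
          ((c.syl.inf_normal hKX hXK).mono (le_inf inf_le_right (inf_le_left.trans hUN)) inf_le_left).odd
        haveI : Group.IsSolvable ↥f.ker := by
          have hmem : ∀ z : ↥f.ker, ((z : ↥Nx) : G) ∈ Kn := fun z => by
            refine ⟨?_, (z : ↥Nx).2⟩
            have h1 : π (Subgroup.inclusion inf_le_left (z : ↥Nx)) = 1 := z.2
            rw [QuotientGroup.mk'_apply, QuotientGroup.eq_one_iff] at h1
            exact h1
          refine Group.isSolvable_of_isSolvable_injective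
            (f := MonoidHom.mk' (fun z : ↥f.ker => (⟨_, hmem z⟩ : ↥Kn)) fun _ _ => rfl) ?_
          intro z z' h
          exact Subtype.ext (Subtype.ext (congrArg (fun t : ↥Kn => (t : G)) h))
        exact CompSzL2.of_solvable
      · rintro ⟨z, hz⟩
        exact ⟨z, rfl⟩
    have hYcomp : CompSzL2 ↥Y := by
      let f : ↥Y →* ↥X ⧸ K.subgroupOf X := π.comp (Subgroup.inclusion hYX)
      refine CompSzL2.ext' f ?_ ?_
      · refine (c.comp.of_le_normal hKX hXK).of_surjective
          (MonoidHom.mk' (fun k : ↥K => (⟨⟨k, Subgroup.mem_sup_right k.2⟩, by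
            show π ⟨k, _⟩ = 1
            rw [QuotientGroup.mk'_apply, QuotientGroup.eq_one_iff]; exact k.2⟩ : ↥f.ker))
            fun _ _ => rfl) ?_
        rintro ⟨⟨z, hz⟩, hzk⟩
        have h1 : π ⟨z, hYX hz⟩ = 1 := hzk
        rw [QuotientGroup.mk'_apply, QuotientGroup.eq_one_iff] at h1
        exact ⟨⟨z, h1⟩, rfl⟩
      · have hfr2 : IsPGroup 2 ↥f.range := by
          refine IsPGroup.to_le ((c.syl.two.comap_subtype : IsPGroup 2 ↥(U.subgroupOf X)).map π) ?_
          rintro _ ⟨⟨z, hz⟩, rfl⟩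
          obtain ⟨u, hu, k, hk, rfl⟩ := exists_mul_of_mem_sup (c.syl.le.trans hXK) hz
          refine ⟨⟨u, c.syl.le hu⟩, hu, ?_⟩
          show π ⟨u, _⟩ = π ⟨u * k, _⟩
          rw [show (⟨u * k, hYX hz⟩ : ↥X) = ⟨u, c.syl.le hu⟩ * ⟨k, hKX hk⟩ from rfl, map_mul,
            show π ⟨k, hKX hk⟩ = 1 by
              rw [QuotientGroup.mk'_apply, QuotientGroup.eq_one_iff]; exact hk, mul_one]
        haveI : Fact (Nat.Prime 2) := ⟨Nat.prime_two⟩
        haveI := hfr2.isNilpotent
        haveI : Group.IsSolvable ↥f.range := inferInstance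
        exact CompSzL2.of_solvable
    have hfN : Factors S Nx := ih Nx U (hsmall Nx inf_le_left hNne)
      ⟨c.free, c.hS, c.syl.mono hUN inf_le_left, c.hUS, hNcomp,
        c.char2.of_le inf_le_left (hQU.trans hUN), c.jel, c.mem⟩
    have hfY : Factors S Y := ih Y U (hsmall Y hYX hYne)
      ⟨c.free, c.hS, c.syl.mono le_sup_left hYX, c.hUS, hYcomp,
        c.char2.of_le hYX (hQU.trans le_sup_left), c.jel, c.mem⟩
    intro g hg
    obtain ⟨k₀, hk₀, h, hh, rfl⟩ := hfr g hg
    set k := h⁻¹ * k₀ * h with hk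
    have hkK : k ∈ K := by
      simpa [hk] using (Subgroup.mem_normalizer_iff.1 (hXK (X.inv_mem hh.1)) k₀).1 hk₀
    obtain ⟨z, hz, hzC, hzN⟩ := hfN h hh
    set m := z⁻¹ * h with hm
    have hmX : m ∈ X := X.mul_mem (X.inv_mem hz.1) hh.1
    have hk' : m * k * m⁻¹ ∈ K := (Subgroup.mem_normalizer_iff.1 (hXK hmX) k).1 hkK
    obtain ⟨z₁, hz₁, hz₁C, hz₁N⟩ := hfY _ (Subgroup.mem_sup_right hk')
    refine ⟨z * z₁, X.mul_mem hz.1 (hYX hz₁), Subgroup.mul_mem _ hzC hz₁C, ?_⟩
    have e : (z * z₁)⁻¹ * (k₀ * h) = (z₁⁻¹ * (m * k * m⁻¹)) * m := by rw [hm, hk]; group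
    rw [e]
    exact Subgroup.mul_mem _ hz₁N hzN

end CfsgLib.LocalEven.TwoFactor
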