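import Cfsg.Agent.Lib.LocalEven.Factor.Basic
import Cfsg.Agent.Lib.LocalEven.Factor.Comp
import Cfsg.Agent.S2759
import Cfsg.Agent.Lib.Fusion.SectionFree

/-!
The offender bound for a group acting on a normal elementary abelian subgroup with reduced image.
-/

set_option autoImplicit false
set_option linter.style.haveILetI false

universe u

namespace CfsgLib.LocalEven.TwoFactor

open Cfsg CfsgLib.LocalEven.S4W CfsgLib.Techniques
open scoped commutatorElement

variable {G : Type u} [Group G] [Finite G]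

/-- `X` induces a group without a nontrivial normal `2`-subgroup on `M`. -/
def Red (X M : Subgroup G) : Prop :=
  ∀ R ≤ X, X ≤ Subgroup.normalizer (R : Set G) →
    (∀ r ∈ R, ∃ k : ℕ, r ^ 2 ^ k ∈ Subgroup.centralizer (M : Set G)) →
    R ≤ Subgroup.centralizer (M : Set G)

/-- The action of `X` on `M`. -/
def actHom {M X : Subgroup G} (hXM : X ≤ Subgroup.normalizer (M : Set G)) : ↥X →* MulAut M :=
  M.normalizerMonoidHom.comp (Subgroup.inclusion hXM)

omit [Finite G] in
theorem coe_actHom {M X : Subgroup G} (hXM : X ≤ Subgroup.normalizer (M : Set G)) (g : ↥X)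
    (v : ↥M) : (actHom hXM g v : G) = g * v * (g : G)⁻¹ := rfl

omit [Finite G] in
theorem ker_actHom {M X : Subgroup G} (hXM : X ≤ Subgroup.normalizer (M : Set G)) :
    (actHom hXM).ker = (Subgroup.centralizer (M : Set G)).subgroupOf X := by
  ext g
  rw [actHom, ← MonoidHom.comap_ker, Subgroup.normalizerMonoidHom_ker]
  rfl

/-- The reduced automorphism group is `S₃`-free with the given factors and trivial `O₂`. -/
theorem act_facts {M X : Subgroup G} (hfree : ¬ Involves (Equiv.Perm (Fin 4)) G)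
    (hcomp : CompSzL2 ↥X) (hM : IsElementaryAbelian 2 M)
    (hXM : X ≤ Subgroup.normalizer (M : Set G)) (hred : Red X M) :
    CompSzL2 ↥(actHom hXM).range ∧ ¬ Involves (Equiv.Perm (Fin 3)) ↥(actHom hXM).range ∧
      pCore 2 ↥(actHom hXM).range = ⊥ := by
  classical
  set φ := actHom hXM with hφdef
  have hker := ker_actHom hXM
  rw [← hφdef] at hker
  set Γ := φ.range
  have hc : CompSzL2 ↥Γ := hcomp.of_surjective φ.rangeRestrict φ.rangeRestrict_surjective
  have hfree3 : ¬ Involves (Equiv.Perm (Fin 3)) ↥Γ := by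
    intro h
    refine hfree (Cfsg.Agent.S2759.involves_of_exists ⟨M, isPGroup_el hM, ?_⟩)
    have hle : Γ ≤ M.normalizerMonoidHom.range := by
      rw [show Γ = φ.range from rfl, hφdef, actHom, MonoidHom.range_comp]
      exact Subgroup.map_le_range _ _
    set e := (QuotientGroup.quotientMulEquivOfEq (Subgroup.normalizerMonoidHom_ker M)).symm.trans
      (QuotientGroup.quotientKerEquivRange M.normalizerMonoidHom)
    exact CfsgLib.Fusion.involves_of_injective (e.symm.toMonoidHom.comp (Subgroup.inclusion hle))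
      (e.symm.injective.comp (Subgroup.inclusion_injective hle)) h
  have hO : pCore 2 ↥Γ = ⊥ := by
    set P := pCore 2 ↥Γ with hP
    set R₁ : Subgroup ↥X := P.comap φ.rangeRestrict
    haveI : R₁.Normal := inferInstance
    have h1 := hred (R₁.map X.subtype) (Subgroup.map_subtype_le _) (fun g hg => by
        refine Subgroup.le_normalizer_map X.subtype ⟨⟨g, hg⟩, ?_, rfl⟩
        rw [Subgroup.normalizer_eq_top]
        exact Subgroup.mem_top _) (by
      rintro _ ⟨r, hr, rfl⟩
      obtain ⟨k, hk⟩ := CfsgLib.Base.isPGroup_pCore 2 ↥Γ ⟨φ.rangeRestrict r, hr⟩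
      refine ⟨k, ?_⟩
      have h2 : r ^ 2 ^ k ∈ φ.ker := by
        rw [MonoidHom.mem_ker, map_pow]
        exact congrArg (fun t : P => ((t : Γ) : MulAut M)) hk
      rw [hker] at h2
      exact h2)
    rw [eq_bot_iff]
    intro z hz
    obtain ⟨r, rfl⟩ := φ.rangeRestrict_surjective z
    have h2 : r ∈ φ.ker := by
      rw [hker]
      exact h1 ⟨r, hz, rfl⟩
    exact Subgroup.mem_bot.2 (Subtype.ext h2)
  exact ⟨hc, hfree3, hO⟩

/-- The offender bound. -/
theorem mod_bound {M X : Subgroup G} (hfree : ¬ Involves (Equiv.Perm (Fin 4)) G)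
    (hcomp : CompSzL2 ↥X) (hM : IsElementaryAbelian 2 M)
    (hXM : X ≤ Subgroup.normalizer (M : Set G)) (hred : Red X M) {R : Subgroup G} (hRX : R ≤ X)
    (hR : ElImg M R) :
    (Subgroup.centralizer (M : Set G)).relIndex R ^ 2 ≤
        (Subgroup.centralizer (R : Set G)).relIndex M ∧
      (Subgroup.centralizer (M : Set G)).relIndex R ^ 2 ≤ Nat.card ↥⁅M, R⁆ := by
  classical
  obtain ⟨hc, hfree3, hO⟩ := act_facts hfree hcomp hM hXM hred
  set φ : ↥X →* MulAut M := actHom hXM with hφdef
  have hφc : ∀ (g : ↥X) (v : ↥M), (φ g v : G) = g * v * (g : G)⁻¹ := fun g v => rfl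
  have hker : φ.ker = (Subgroup.centralizer (M : Set G)).subgroupOf X := ker_actHom hXM
  set Γ := φ.range
  haveI : Finite Γ := inferInstance
  haveI : Finite (↥M ⋊[Γ.subtype] ↥Γ) := Finite.of_equiv _ SemidirectProduct.equivProd.symm
  set i : ↥M →* ↥M ⋊[Γ.subtype] ↥Γ := SemidirectProduct.inl with hi
  set j : ↥Γ →* ↥M ⋊[Γ.subtype] ↥Γ := SemidirectProduct.inr with hj
  have hii : Function.Injective i := SemidirectProduct.inl_injective
  have hjj : Function.Injective j := SemidirectProduct.inr_injective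
  have hconj : ∀ (γ : ↥Γ) (v : ↥M), j γ * i v * (j γ)⁻¹ = i ((γ : MulAut M) v) := by
    intro γ v
    rw [← map_inv]
    exact (SemidirectProduct.inl_aut (φ := Γ.subtype) γ v).symm
  have htopel : IsElementaryAbelian 2 (⊤ : Subgroup ↥M) :=
    ⟨⟨⟨fun a b => Subtype.ext (Subtype.ext (comm_el hM a.1.2 b.1.2))⟩⟩,
      fun v _ => Subtype.ext (by simpa using hM.2 _ v.2)⟩
  have hMel : IsElementaryAbelian 2 i.range := by
    rw [MonoidHom.range_eq_map]
    exact el_map i htopel
  have hGn : j.range ≤ Subgroup.normalizer (i.range : Set (↥M ⋊[Γ.subtype] ↥Γ)) := by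
    rintro _ ⟨γ, rfl⟩
    refine mem_normalizer_of_conj_mem ?_
    rintro _ ⟨v, rfl⟩
    exact ⟨_, (hconj γ v).symm⟩
  have hf : j.range ⊓ Subgroup.centralizer (i.range : Set (↥M ⋊[Γ.subtype] ↥Γ)) = ⊥ := by
    rw [eq_bot_iff]
    rintro _ ⟨⟨γ, rfl⟩, hγ⟩
    have h1 : (γ : MulAut M) = 1 := by
      refine MulEquiv.ext fun v => hii ?_
      rw [← hconj, ← Subgroup.mem_centralizer_iff.1 hγ (i v) ⟨v, rfl⟩, mul_inv_cancel_right]
      rfl
    rw [Subgroup.mem_bot, show γ = 1 from Subtype.ext h1, map_one]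
  have e := MonoidHom.ofInjective hjj
  have hO' : pCore 2 ↥j.range = ⊥ := by
    have hP : IsPGroup 2 ↥((pCore 2 ↥j.range).comap e.toMonoidHom) :=
      (CfsgLib.Base.isPGroup_pCore 2 _).comap_of_injective _ e.injective
    have h1 := CfsgLib.Base.le_pCore (N := (pCore 2 ↥j.range).comap e.toMonoidHom) hP
    rw [hO] at h1
    rw [eq_bot_iff]
    intro z hz
    obtain ⟨γ, rfl⟩ := e.surjective z
    rw [Subgroup.mem_bot, show γ = 1 from Subgroup.mem_bot.1 (h1 hz), map_one]
  have hfree' : ¬ Involves (Equiv.Perm (Fin 3)) ↥j.range := fun h =>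
    hfree3 (CfsgLib.Fusion.involves_of_injective e.symm.toMonoidHom e.symm.injective h)
  have hc' : CompSzL2 ↥j.range := hc.of_surjective e.toMonoidHom e.surjective
  set Rb : Subgroup ↥Γ := (R.subgroupOf X).map φ.rangeRestrict with hRb
  have hRbel : IsElementaryAbelian 2 Rb := by
    refine ⟨⟨⟨?_⟩⟩, ?_⟩
    · rintro ⟨_, a, ha, rfl⟩ ⟨_, b, hb, rfl⟩
      refine Subtype.ext ?_
      show φ.rangeRestrict a * φ.rangeRestrict b = φ.rangeRestrict b * φ.rangeRestrict a
      rw [← commutatorElement_eq_one_iff_mul_comm, ← map_commutatorElement]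
      refine Subtype.ext ?_
      show φ ⁅a, b⁆ = 1
      rw [← MonoidHom.mem_ker, hker]
      exact hR.1 (Subgroup.commutator_mem_commutator ha hb)
    · rintro _ ⟨a, ha, rfl⟩
      rw [← map_pow]
      refine Subtype.ext ?_
      show φ (a ^ 2) = 1
      rw [← MonoidHom.mem_ker, hker]
      exact hR.2 _ ha
  have hAel : IsElementaryAbelian 2 (Rb.map j) := el_map j hRbel
  obtain ⟨b1, b2⟩ := CfsgLib.LocalEven.SzL2.offender_bound i.range j.range hMel hGn hf hO' hfree'
    hc' (Rb.map j) (Subgroup.map_le_range _ _) hAel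
  have hcard : Nat.card ↥(Rb.map j) = (Subgroup.centralizer (M : Set G)).relIndex R := by
    rw [Subgroup.card_map_of_injective hjj, hRb, ← Subgroup.relIndex_ker, MonoidHom.ker_rangeRestrict,
      hker, Subgroup.relIndex_subgroupOf hRX]
  rw [hcard] at b1 b2
  have hMc : Nat.card ↥i.range = Nat.card M := by
    rw [MonoidHom.range_eq_map, Subgroup.card_map_of_injective hii, Subgroup.card_top]
  constructor
  · have hfix : Nat.card ↥(M ⊓ Subgroup.centralizer (R : Set G)) ≤
        Nat.card ↥(i.range ⊓ Subgroup.centralizer (Rb.map j : Set (↥M ⋊[Γ.subtype] ↥Γ))) := by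
      rw [← Nat.card_congr (Subgroup.subgroupOfEquivOfLe (inf_le_left :
        M ⊓ Subgroup.centralizer (R : Set G) ≤ M)).toEquiv, ← Subgroup.card_map_of_injective hii]
      refine Subgroup.card_le_of_le ?_
      rintro _ ⟨v, hv, rfl⟩
      refine ⟨⟨v, rfl⟩, Subgroup.mem_centralizer_iff.2 ?_⟩
      rintro _ ⟨_, ⟨r, hr, rfl⟩, rfl⟩
      have h1 : (φ.rangeRestrict r : MulAut M) v = v := Subtype.ext (by
        show (φ r v : G) = v
        have e : (r : G) * (v : G) = (v : G) * r := Subgroup.mem_centralizer_iff.1 hv.2 (r : G) hr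
        rw [hφc, e, mul_inv_cancel_right])
      have h2 := hconj (φ.rangeRestrict r) v
      rw [h1] at h2
      exact mul_inv_eq_iff_eq_mul.1 h2
    have h3 := card_eq_relIndex_mul (inf_le_left : M ⊓ Subgroup.centralizer (R : Set G) ≤ M)
    rw [Subgroup.inf_relIndex_left] at h3
    refine Nat.le_of_mul_le_mul_right ?_ (Nat.card_pos (α := ↥(M ⊓ Subgroup.centralizer (R : Set G))))
    calc _ ≤ _ := (Nat.mul_le_mul_left _ hfix).trans b1
      _ = _ := hMc.trans h3
  · refine b2.trans ?_
    have hle : ⁅M, R⁆ ≤ M := Subgroup.le_normalizer_iff_commutator_le_left.1 (hRX.trans hXM)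
    rw [← Nat.card_congr (Subgroup.subgroupOfEquivOfLe hle).toEquiv,
      ← Subgroup.card_map_of_injective hii]
    refine Subgroup.card_le_of_le (Subgroup.commutator_le.2 ?_)
    rintro _ ⟨v, rfl⟩ _ ⟨_, ⟨r, hr, rfl⟩, rfl⟩
    refine ⟨v * (φ r v)⁻¹, ?_, ?_⟩
    · rw [SetLike.mem_coe, Subgroup.mem_subgroupOf, Subgroup.coe_mul, Subgroup.coe_inv, hφc]
      have := Subgroup.commutator_mem_commutator v.2 (Subgroup.mem_subgroupOf.1 hr)
      rw [commutatorElement_def] at this
      simpa [mul_assoc] using this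
    · have h2 := hconj (φ.rangeRestrict r) v
      rw [commutatorElement_def, map_mul, map_inv, show i (φ r v) = _ from h2.symm]
      group

end CfsgLib.LocalEven.TwoFactor
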