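import Cfsg.Agent.Lib.LocalEven.Factor.Red

/-!
The Thompson subgroup, E-subgroups and `Ĵ` of a `2`-subgroup `S` of `G`, and the factorizations
with the centre of `S`.
-/

set_option autoImplicit false
set_option linter.style.haveILetI false

universe u

namespace CfsgLib.LocalEven.TwoFactor

open Cfsg CfsgLib.LocalEven.S4W CfsgLib.Techniques
open scoped commutatorElement

variable {G : Type u} [Group G] [Finite G]

/-- An E-subgroup of `S` containing the Thompson subgroup. -/
structure Member (S M : Subgroup G) : Prop where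
  le : M ≤ S
  eg : EG M
  jel : Jel S ≤ M

/-- `Ĵ(S)` in the ambient group. -/
def Jh (S : Subgroup G) : Subgroup G := sSup {M | Member S M}

/-- `Ω₁(Z(Ĵ(S)))`. -/
def Zh (S : Subgroup G) : Subgroup G :=
  omegaOne 2 (Jh S ⊓ Subgroup.centralizer (Jh S : Set G))

omit [Finite G] in
theorem Jh_le (S : Subgroup G) : Jh S ≤ S := sSup_le fun _ h => h.le

omit [Finite G] in
theorem zh_le (S : Subgroup G) : Zh S ≤ Jh S := (omegaOne_le' _).trans inf_le_left

theorem exists_maxEl (S : Subgroup G) : ∃ A, MaxEl S A := by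
  obtain ⟨A, ⟨hA1, hA2⟩, hA3⟩ := Set.exists_max_image
    {A : Subgroup G | A ≤ S ∧ IsElementaryAbelian 2 A} (fun A => Nat.card A) (Set.toFinite _)
    ⟨⊥, bot_le, ⟨inferInstance, fun x hx => by rw [Subgroup.mem_bot.1 hx, one_pow]⟩⟩
  exact ⟨A, hA1, hA2, fun B hB hB' => hA3 B ⟨hB, hB'⟩⟩

theorem card_sup_mul {H K : Subgroup G} (h : H ≤ Subgroup.normalizer (K : Set G)) :
    Nat.card ↥(H ⊔ K) * Nat.card ↥(H ⊓ K) = Nat.card H * Nat.card K := by
  have h1 := card_eq_relIndex_mul (le_sup_right : K ≤ H ⊔ K)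
  rw [relIndex_sup_eq h, ← Subgroup.inf_relIndex_left H K] at h1
  rw [h1, card_eq_relIndex_mul (inf_le_left : H ⊓ K ≤ H)]
  ring

theorem card_le_of_el {S A B M : Subgroup G} (hA : MaxEl S A) (hB : B ≤ A) (hM : IsElementaryAbelian 2 M)
    (hMS : M ≤ S) (hc : B ≤ Subgroup.centralizer (M : Set G)) :
    Nat.card B * Nat.card M ≤ Nat.card A * Nat.card ↥(B ⊓ M) := by
  rw [← card_sup_mul (hc.trans (Subgroup.centralizer_le_normalizer _))]
  exact Nat.mul_le_mul_right _
    (hA.card_le _ (sup_le (hB.trans hA.le) hMS) (el_sup (el_mono hA.el hB) hM hc))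

/-- An elementary abelian subgroup of largest order moves at most as much as it acts. -/
theorem maxEl_bound {S A M : Subgroup G} (hA : MaxEl S A) (hM : IsElementaryAbelian 2 M) (hMS : M ≤ S) :
    (Subgroup.centralizer (A : Set G)).relIndex M ≤
      (Subgroup.centralizer (M : Set G)).relIndex A := by
  set B := A ⊓ Subgroup.centralizer (M : Set G) with hB
  set F := M ⊓ Subgroup.centralizer (A : Set G) with hF
  have h1 := card_le_of_el hA (inf_le_left : B ≤ A) hM hMS inf_le_right
  have h2 : Nat.card ↥(B ⊓ M) ≤ Nat.card F := Subgroup.card_le_of_le (le_inf inf_le_right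
    (inf_le_left.trans (inf_le_left.trans (Subgroup.le_centralizer_iff_isMulCommutative.2 hA.el.1))))
  have hA' := card_eq_relIndex_mul (inf_le_left : B ≤ A)
  have hM' := card_eq_relIndex_mul (inf_le_left : F ≤ M)
  rw [Subgroup.inf_relIndex_left, ← hB] at hA'
  rw [Subgroup.inf_relIndex_left, ← hF] at hM'
  rw [← hB] at h1
  refine Nat.le_of_mul_le_mul_right ?_ (Nat.mul_pos (Nat.card_pos (α := B)) (Nat.card_pos (α := F)))
  calc (Subgroup.centralizer (A : Set G)).relIndex M * (Nat.card B * Nat.card F)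
      = Nat.card B * Nat.card M := by rw [hM']; ring
    _ ≤ Nat.card A * Nat.card F := h1.trans (Nat.mul_le_mul_left _ h2)
    _ = _ := by rw [hA']; ring

theorem maxEl_absorb {S A M : Subgroup G} (hA : MaxEl S A) (hM : IsElementaryAbelian 2 M) (hMS : M ≤ S)
    (hc : A ≤ Subgroup.centralizer (M : Set G)) : M ≤ A := by
  have h := hA.card_le (A ⊔ M) (sup_le hA.le hMS) (el_sup hA.el hM hc)
  exact le_sup_right.trans (Subgroup.eq_of_le_of_card_ge le_sup_left h).ge

theorem maxEl_le_centralizer_of_sq {S A M : Subgroup G} (hA : MaxEl S A) (hM : IsElementaryAbelian 2 M)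
    (hMS : M ≤ S)
    (h : (Subgroup.centralizer (M : Set G)).relIndex A ^ 2 ≤
      (Subgroup.centralizer (A : Set G)).relIndex M) : A ≤ Subgroup.centralizer (M : Set G) := by
  refine Subgroup.relIndex_eq_one.1 ?_
  have h1 := h.trans (maxEl_bound hA hM hMS)
  have h2 := relIndex_pos (Subgroup.centralizer (M : Set G)) A
  nlinarith

theorem maxEl_le_centralizer_of_propV {S U A V : Subgroup G} (hA : MaxEl S A) (hAU : A ≤ U)
    (hV : IsElementaryAbelian 2 V) (hVS : V ≤ S) (hp : PropV U V) :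
    A ≤ Subgroup.centralizer (V : Set G) := by
  by_contra hc
  obtain ⟨h1, -⟩ := hp A hAU (elImg_of_el hA.el) hc
  have h2 := Nat.pow_le_pow_left (maxEl_bound hA hV hVS) 2
  have h3 : (Subgroup.centralizer (V : Set G)).relIndex A ^ 2 ≤
      (Subgroup.centralizer (V : Set G)).relIndex A ^ 3 :=
    Nat.pow_le_pow_right (relIndex_pos _ _) (by norm_num)
  omega

theorem propV_of_bound {U V : Subgroup G}
    (h : ∀ R ≤ U, ElImg V R →
      (Subgroup.centralizer (V : Set G)).relIndex R ^ 2 ≤
          (Subgroup.centralizer (R : Set G)).relIndex V ∧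
        (Subgroup.centralizer (V : Set G)).relIndex R ^ 2 ≤ Nat.card ↥⁅V, R⁆) : PropV U V := by
  intro R hR hi hnc
  obtain ⟨h1, h2⟩ := h R hR hi
  set r := (Subgroup.centralizer (V : Set G)).relIndex R
  have hr : 2 ≤ r := by
    have h3 : r ≠ 1 := fun e => hnc (Subgroup.relIndex_eq_one.1 e)
    have h4 : 0 < r := relIndex_pos _ _
    omega
  constructor
  · calc r ^ 3 < (r ^ 2) ^ 2 := by rw [← pow_mul]; exact Nat.pow_lt_pow_right hr (by norm_num)
      _ ≤ _ := Nat.pow_le_pow_left h1 2
  · calc r < r ^ 2 := by nlinarith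
      _ ≤ _ := h2

theorem EG.conj {M : Subgroup G} (h : EG M) (g : G) : EG (cj g M) := by
  have h1 := (eg_iff M.subtype M.subtype_injective).2 (by rwa [Subgroup.range_subtype])
  have h2 := (eg_iff ((MulAut.conj g).toMonoidHom.comp M.subtype)
    ((MulAut.conj g).injective.comp M.subtype_injective)).1 h1
  rwa [MonoidHom.range_comp, Subgroup.range_subtype] at h2

theorem cj_jel_le {S P : Subgroup G} (hPS : P ≤ S) (hP : ∀ A, MaxEl S A → A ≤ P) {g : G}
    (hg : g ∈ Subgroup.normalizer (P : Set G)) : cj g (Jel S) ≤ Jel S := by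
  rw [cj, Subgroup.map_le_iff_le_comap]
  refine sSup_le fun A hA => ?_
  rw [← Subgroup.map_le_iff_le_comap]
  exact (MaxEl.map hA (g := g) ((Subgroup.map_mono (hP A hA)).trans
    ((mem_normalizer_iff_cj.1 hg).le.trans hPS))).le_Jel

theorem mem_normalizer_jel {S P : Subgroup G} (hPS : P ≤ S) (hP : ∀ A, MaxEl S A → A ≤ P) {g : G}
    (hg : g ∈ Subgroup.normalizer (P : Set G)) : g ∈ Subgroup.normalizer (Jel S : Set G) :=
  mem_normalizer_iff_cj.2 (Subgroup.eq_of_le_of_card_ge (cj_jel_le hPS hP hg) (card_cj _ _).ge)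

theorem mem_normalizer_jh {S P : Subgroup G} (hPS : P ≤ S) (hP : ∀ A, MaxEl S A → A ≤ P)
    (hM : ∀ M, Member S M → M ≤ P) {g : G} (hg : g ∈ Subgroup.normalizer (P : Set G)) :
    g ∈ Subgroup.normalizer (Jh S : Set G) := by
  refine mem_normalizer_iff_cj.2 (Subgroup.eq_of_le_of_card_ge ?_ (card_cj _ _).ge)
  rw [cj, Subgroup.map_le_iff_le_comap]
  refine sSup_le fun M hMm => ?_
  rw [← Subgroup.map_le_iff_le_comap]
  refine le_sSup ⟨(Subgroup.map_mono (hM M hMm)).trans
    ((mem_normalizer_iff_cj.1 hg).le.trans hPS), hMm.eg.conj g, ?_⟩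
  rw [← mem_normalizer_iff_cj.1 (mem_normalizer_jel hPS hP hg)]
  exact Subgroup.map_mono hMm.jel

theorem jel_eq (S : Subgroup G) : thompsonSubgroupOf 2 S = Jel S := by
  rw [thompsonSubgroupOf, thompsonSubgroup, sSup_eq_iSup', Subgroup.map_iSup]
  refine le_antisymm (iSup_le fun A => le_sSup ⟨Subgroup.map_subtype_le _,
    el_map S.subtype A.2.1, fun B hB hBel => ?_⟩) ?_
  · rw [Subgroup.card_map_of_injective S.subtype_injective,
      ← Nat.card_congr (Subgroup.subgroupOfEquivOfLe hB).toEquiv]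
    exact A.2.2 _ ⟨⟨⟨fun a b => Subtype.ext (Subtype.ext (comm_el hBel a.2 b.2))⟩⟩,
      fun x hx => Subtype.ext (by simpa using hBel.2 _ hx)⟩
  · refine sSup_le fun A hA => ?_
    rw [← Subgroup.map_subgroupOf_eq_of_le hA.le]
    refine le_iSup (fun B : maxElementaryAbelianSubgroups 2 S => (B.1).map S.subtype)
      ⟨A.subgroupOf S, ⟨⟨⟨fun a b => Subtype.ext (Subtype.ext (comm_el hA.el a.2 b.2))⟩⟩,
        fun x hx => Subtype.ext (by simpa using hA.el.2 _ hx)⟩, fun B hB => ?_⟩
    rw [Nat.card_congr (Subgroup.subgroupOfEquivOfLe hA.le).toEquiv,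
      ← Subgroup.card_map_of_injective S.subtype_injective]
    exact hA.card_le _ (Subgroup.map_subtype_le B) (el_map S.subtype hB)

theorem jh_eq (S : Subgroup G) : (jHat ↥S).map S.subtype = Jh S := by
  have hJ : (thompsonSubgroup 2 ↥S).map S.subtype = Jel S := jel_eq S
  have heg : ∀ U : Subgroup ↥S, IsEGroup ↥U ↔ EG (U.map S.subtype) := fun U => by
    rw [eg_iff (S.subtype.comp U.subtype) (S.subtype_injective.comp U.subtype_injective),
      MonoidHom.range_comp, Subgroup.range_subtype]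
  rw [jHat, sSup_eq_iSup', Subgroup.map_iSup]
  refine le_antisymm (iSup_le fun U => le_sSup ⟨Subgroup.map_subtype_le _, (heg _).1 U.2.1,
    hJ ▸ Subgroup.map_mono U.2.2⟩) (sSup_le fun M hM => ?_)
  rw [← Subgroup.map_subgroupOf_eq_of_le hM.le]
  refine le_iSup (fun U : {U : Subgroup ↥S | IsEGroup ↥U ∧ thompsonSubgroup 2 ↥S ≤ U} =>
    (U.1).map S.subtype) ⟨M.subgroupOf S, (heg _).2 (by
      rw [Subgroup.map_subgroupOf_eq_of_le hM.le]; exact hM.eg), ?_⟩
  refine (Subgroup.map_le_map_iff_of_injective S.subtype_injective).1 ?_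
  rw [hJ, Subgroup.map_subgroupOf_eq_of_le hM.le]
  exact hM.jel

/-- A normal subgroup of `G` whose elements of odd order and whose Sylow subgroup centralise `Z`
centralises the normal closure of `Z`. -/
theorem le_centralizer_normalClosure {R Z : Subgroup G} (hR : R.Normal)
    (h : R ≤ Subgroup.centralizer (Z : Set G)) :
    R ≤ Subgroup.centralizer (Subgroup.normalClosure (Z : Set G) : Set G) := by
  rw [Subgroup.le_centralizer_iff]
  haveI := hR
  exact Subgroup.normalClosure_le_normal (Subgroup.le_centralizer_iff.1 h)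

omit [Finite G] in
/-- Odd automorphisms of an abelian `2`-group trivial on `Ω₁` are trivial. -/
theorem centralizes_of_omega {V : Subgroup G} {x : G} (ho : Odd (orderOf x)) (hV2 : IsPGroup 2 V)
    (hVab : V ≤ Subgroup.centralizer (V : Set G)) (hxV : x ∈ Subgroup.normalizer (V : Set G))
    (hx : x ∈ Subgroup.centralizer (omegaOne 2 V : Set G)) :
    x ∈ Subgroup.centralizer (V : Set G) := by
  suffices ∀ (k : ℕ) (v : G), v ∈ V → v ^ 2 ^ k = 1 → x * v * x⁻¹ = v by
    refine Subgroup.mem_centralizer_iff.2 fun v hv => ?_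
    obtain ⟨k, hk⟩ := hV2 ⟨v, hv⟩
    exact (mul_inv_eq_iff_eq_mul.1 (this k v hv (congrArg Subtype.val hk))).symm
  intro k
  induction k with
  | zero => intro v _ h; rw [pow_zero, pow_one] at h; rw [h, mul_one, mul_inv_cancel]
  | succ k ih =>
    intro v hv h
    have hi : x * v * x⁻¹ * v⁻¹ ∈ V :=
      V.mul_mem ((Subgroup.mem_normalizer_iff.1 hxV v).1 hv) (V.inv_mem hv)
    have h2 := ih (v ^ 2) (V.pow_mem hv 2) (by rw [← pow_mul, ← pow_succ']; exact h)
    have hcm : Commute (x * v * x⁻¹) v⁻¹ :=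
      Commute.inv_right (show Commute (x * v * x⁻¹) v from
        Subgroup.mem_centralizer_iff.1 (hVab hv) (x * v * x⁻¹)
          ((Subgroup.mem_normalizer_iff.1 hxV v).1 hv))
    have hi2 : (x * v * x⁻¹ * v⁻¹) ^ 2 = 1 := by
      rw [hcm.mul_pow, conj_pow, h2, inv_pow, mul_inv_cancel]
    have hfix : x * (x * v * x⁻¹ * v⁻¹) * x⁻¹ = x * v * x⁻¹ * v⁻¹ := by
      rw [← Subgroup.mem_centralizer_iff.1 hx _ (Subgroup.subset_closure ⟨hi, hi2⟩),
        mul_inv_cancel_right]
    exact mul_inv_eq_one.1 (eq_one_of_chain (v := v) ho hfix (by group) hV2 hi)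

/-- `G = C(Z(S)) N(J_e(S))` and `G = C(Z(S)) N(Ĵ(S))`. -/
theorem center_factorization (hchar : Subgroup.centralizer (pCore 2 G : Set G) ≤ pCore 2 G)
    (hfree : ¬ Involves (Equiv.Perm (Fin 4)) G) (hcomp : CompSzL2 G) (S : Sylow 2 G) (g : G) :
    ∃ c ∈ Subgroup.centralizer ((((S : Subgroup G) ⊓ Subgroup.centralizer ((S : Subgroup G) : Set G))
        : Subgroup G) : Set G),
      ∃ n : G, n ∈ Subgroup.normalizer (Jel (S : Subgroup G) : Set G) ∧
        n ∈ Subgroup.normalizer (Jh (S : Subgroup G) : Set G) ∧ g = c * n := by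
  set T := (S : Subgroup G) with hT
  have hS := Syl.of_sylow S
  set Q := pCore 2 G
  haveI : Q.Normal := inferInstance
  have hQS : Q ≤ T := hS.le_of_normal (CfsgLib.Base.isPGroup_pCore 2 G) le_top
    (by rw [Subgroup.normalizer_eq_top])
  set ZS := T ⊓ Subgroup.centralizer (T : Set G) with hZS
  have hZSQ : ZS ≤ Q := (inf_le_right.trans (Subgroup.centralizer_le hQS)).trans hchar
  set V := Subgroup.normalClosure (ZS : Set G) with hV
  haveI : V.Normal := Subgroup.normalClosure_normal
  haveI : (Subgroup.centralizer (Q : Set G)).Normal := Subgroup.normal_centralizer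
  have hVQ : V ≤ Q ⊓ Subgroup.centralizer (Q : Set G) := Subgroup.normalClosure_le_normal
    (le_inf hZSQ (inf_le_right.trans (Subgroup.centralizer_le hQS)))
  have hVab : V ≤ Subgroup.centralizer (V : Set G) :=
    hVQ.trans (inf_le_right.trans (Subgroup.centralizer_le (hVQ.trans inf_le_left)))
  have hV2 : IsPGroup 2 V := (CfsgLib.Base.isPGroup_pCore 2 G).to_le (hVQ.trans inf_le_left)
  set M := omegaOne 2 V with hM
  have hMel : IsElementaryAbelian 2 M := el_omegaOne hVab
  have hMn : (⊤ : Subgroup G) ≤ Subgroup.normalizer (M : Set G) :=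
    omegaOne_normal' (by rw [Subgroup.normalizer_eq_top])
  haveI : M.Normal := Subgroup.normalizer_eq_top_iff.1 (top_le_iff.1 hMn)
  set C := Subgroup.centralizer (M : Set G) with hC
  haveI : C.Normal := Subgroup.normal_centralizer
  have hoddV : ∀ x ∈ C, Odd (orderOf x) → x ∈ Subgroup.centralizer (V : Set G) := fun x hx ho =>
    centralizes_of_omega ho hV2 hVab (by
      rw [Subgroup.normalizer_eq_top]; exact Subgroup.mem_top _) hx
  have hred : Red ⊤ M := by
    intro R _ hRn hR
    haveI : R.Normal := Subgroup.normalizer_eq_top_iff.1 (top_le_iff.1 hRn)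
    have h1 : R ≤ Subgroup.centralizer (ZS : Set G) :=
      le_of_syl_of_odd (M := Subgroup.centralizer (ZS : Set G))
        (hS.inf_normal le_top hRn) (inf_le_left.trans (Subgroup.le_centralizer_iff.1 inf_le_right))
        fun x hx ho => by
          obtain ⟨k, hk⟩ := hR x hx
          exact Subgroup.centralizer_le Subgroup.le_normalClosure
            (hoddV x (mem_of_pow_two_pow_mem ho hk) ho)
    exact (le_centralizer_normalClosure inferInstance h1).trans
      (Subgroup.centralizer_le (omegaOne_le' V))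
  have hcomp' : CompSzL2 ↥(⊤ : Subgroup G) :=
    hcomp.of_surjective (Subgroup.topEquiv (G := G)).symm.toMonoidHom
      (Subgroup.topEquiv (G := G)).symm.surjective
  have hMS : M ≤ T := (omegaOne_le' V).trans ((hVQ.trans inf_le_left).trans hQS)
  have hAC : ∀ A, MaxEl T A → A ≤ C := fun A hA =>
    maxEl_le_centralizer_of_sq hA hMel hMS
      (mod_bound hfree hcomp' hMel hMn hred le_top (elImg_of_el hA.el)).1
  have hMC : ∀ U, Member T U → U ≤ C := by
    intro U hU
    obtain ⟨A, hA⟩ := exists_maxEl T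
    refine hU.eg M ((maxEl_absorb hA hMel hMS (hAC A hA)).trans (hA.le_Jel.trans hU.jel))
      (le_top.trans hMn) hMel (propV_of_bound fun R hR hi => ?_)
    exact mod_bound hfree hcomp' hMel hMn hred le_top hi
  have hCZ : C ≤ Subgroup.centralizer (ZS : Set G) :=
    le_of_syl_of_odd (hS.inf_normal le_top (by rw [Subgroup.normalizer_eq_top]))
      (inf_le_left.trans (Subgroup.le_centralizer_iff.1 inf_le_right)) fun x hx ho =>
        Subgroup.centralizer_le Subgroup.le_normalClosure (hoddV x hx ho)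
  obtain ⟨c, hc, n, -, hn, rfl⟩ := hS.frattini (le_top : C ≤ ⊤)
    (by rw [Subgroup.normalizer_eq_top]) (Subgroup.mem_top g)
  have hA' : ∀ A, MaxEl T A → A ≤ T ⊓ C := fun A hA => le_inf hA.le (hAC A hA)
  exact ⟨c, hCZ hc, n, mem_normalizer_jel inf_le_left hA' hn,
    mem_normalizer_jh inf_le_left hA' (fun U hU => le_inf hU.le (hMC U hU)) hn, rfl⟩

end CfsgLib.LocalEven.TwoFactor
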