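import Cfsg.Agent.Lib.LocalEven.Factor.Induction
import Cfsg.Agent.Lib.Techniques.Invariance
import Cfsg.Agent.Lib.PLocal.Thompson
import Cfsg.Agent.Lib.Fusion.SectionFreeFactor

/-!
Control of strong fusion by the normal closure of `Ω₁(Z(S))` in `N(J_e(S))`.
-/

set_option autoImplicit false
set_option linter.style.haveILetI false

universe u

namespace CfsgLib.LocalEven.TwoFactor

open Cfsg CfsgLib.LocalEven.S4W CfsgLib.Techniques

variable {G X : Type u} [Group G] [Group X]

/-! ### The functors -/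

/-- The Thompson subgroup, as a functor on groups. -/
def funJ (Q : Type u) [Group Q] : Subgroup Q := thompsonSubgroup 2 Q

/-- `Ĵ`, as a functor on groups. -/
def funH (Q : Type u) [Group Q] : Subgroup Q := jHat Q

/-- `Ω₁(Z(Ĵ))`, as a functor on groups. -/
def funZ (Q : Type u) [Group Q] : Subgroup Q :=
  omegaOne 2 (jHat Q ⊓ Subgroup.centralizer (jHat Q : Set Q))

theorem map_inf_centralizer {f : G →* X} (hf : Function.Injective f) (H : Subgroup G) :
    (H ⊓ Subgroup.centralizer (H : Set G)).map f =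
      H.map f ⊓ Subgroup.centralizer (H.map f : Set X) := by
  ext x
  constructor
  · rintro ⟨h, ⟨hh, hc⟩, rfl⟩
    refine ⟨⟨h, hh, rfl⟩, Subgroup.mem_centralizer_iff.2 ?_⟩
    rintro _ ⟨k, hk, rfl⟩
    rw [← map_mul, ← map_mul, Subgroup.mem_centralizer_iff.1 hc k hk]
  · rintro ⟨⟨h, hh, rfl⟩, hc⟩
    refine ⟨h, ⟨hh, Subgroup.mem_centralizer_iff.2 fun k hk => hf ?_⟩, rfl⟩
    rw [map_mul, map_mul]
    exact Subgroup.mem_centralizer_iff.1 hc _ ⟨k, hk, rfl⟩

variable [Finite G]

theorem induced_funJ (T : Subgroup G) : inducedFunctor funJ T = Jel T := jel_eq T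

theorem induced_funH (T : Subgroup G) : inducedFunctor funH T = Jh T := jh_eq T

theorem induced_funZ (T : Subgroup G) : inducedFunctor funZ T = Zh T := by
  rw [inducedFunctor, funZ, CfsgLib.PLocal.map_omegaOne T.subtype_injective,
    map_inf_centralizer T.subtype_injective, jh_eq, Zh]

theorem member_jel (T : Subgroup G) : Member T (Jel T) := by
  refine ⟨Jel_le T, fun V hVJ _ hV hp => ?_, le_rfl⟩
  exact sSup_le fun A hA =>
    maxEl_le_centralizer_of_propV hA hA.le_Jel hV (hVJ.trans (Jel_le T)) hp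

theorem jel_le_jh (T : Subgroup G) : Jel T ≤ Jh T := le_sSup (member_jel T)

/-- `Ω₁(Z(T))` lies in the Thompson subgroup. -/
theorem omega_center_le (T : Subgroup G) :
    omegaOne 2 (T ⊓ Subgroup.centralizer (T : Set G)) ≤ Jel T := by
  obtain ⟨A, hA⟩ := exists_maxEl T
  refine (maxEl_absorb hA (el_omegaOne (CfsgLib.PLocal.inf_centralizer_le_centralizer T))
    ((omegaOne_le' _).trans inf_le_left) ?_).trans hA.le_Jel
  rw [Subgroup.le_centralizer_iff]
  exact (omegaOne_le' _).trans (inf_le_right.trans (Subgroup.centralizer_le hA.le))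

omit [Finite G] in
theorem omega_center_le_centralizer {T R : Subgroup G} (hR : R ≤ T) :
    omegaOne 2 (T ⊓ Subgroup.centralizer (T : Set G)) ≤ Subgroup.centralizer (R : Set G) :=
  (omegaOne_le' _).trans (inf_le_right.trans (Subgroup.centralizer_le hR))

theorem omega_center_le_zh (T : Subgroup G) :
    omegaOne 2 (T ⊓ Subgroup.centralizer (T : Set G)) ≤ Zh T :=
  Subgroup.closure_mono fun x hx => ⟨⟨(omega_center_le T).trans (jel_le_jh T) (Subgroup.subset_closure hx),
    omega_center_le_centralizer (Jh_le T) (Subgroup.subset_closure hx)⟩, hx.2⟩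

theorem omega_center_ne_bot {Q : Type u} [Group Q] [Finite Q] (hQ : IsPGroup 2 Q) [Nontrivial Q] :
    omegaOne 2 ((⊤ : Subgroup Q) ⊓ Subgroup.centralizer ((⊤ : Subgroup Q) : Set Q)) ≠ ⊥ := by
  haveI : Fact (Nat.Prime 2) := ⟨Nat.prime_two⟩
  refine CfsgLib.PLocal.omegaOne_ne_bot (hQ.to_subgroup _) ?_
  rw [top_inf_eq, Subgroup.coe_top, Subgroup.centralizer_univ]
  exact (Subgroup.nontrivial_iff_ne_bot _).1 hQ.center_nontrivial

theorem jel_top (Q : Type u) [Group Q] [Finite Q] : Jel (⊤ : Subgroup Q) = thompsonSubgroup 2 Q := by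
  rw [← jel_eq]
  exact CfsgLib.PLocal.map_thompsonSubgroup Subgroup.topEquiv

theorem thompson_le_jHat (Q : Type u) [Group Q] [Finite Q] : thompsonSubgroup 2 Q ≤ jHat Q := by
  refine le_sSup ⟨?_, le_rfl⟩
  rw [eg_iff (thompsonSubgroup 2 Q).subtype (thompsonSubgroup 2 Q).subtype_injective,
    Subgroup.range_subtype, ← jel_top]
  exact (member_jel ⊤).eg

theorem map_jHat {Q R : Type u} [Group Q] [Group R] [Finite Q] (e : Q ≃* R) :
    (jHat Q).map e.toMonoidHom = jHat R := by
  have key : ∀ {A B : Type u} [Group A] [Group B] [Finite A] (e : A ≃* B),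
      (jHat A).map e.toMonoidHom ≤ jHat B := by
    intro A B _ _ _ e
    haveI : Finite B := Finite.of_equiv A e.toEquiv
    rw [jHat, Subgroup.map_le_iff_le_comap]
    refine sSup_le fun U hU => Subgroup.map_le_iff_le_comap.1 (le_sSup ⟨?_, ?_⟩)
    · have h1 := (eg_iff (e.toMonoidHom.comp U.subtype) (e.injective.comp U.subtype_injective)).1 hU.1
      rw [MonoidHom.range_comp, Subgroup.range_subtype] at h1
      exact (eg_iff (U.map e.toMonoidHom).subtype (U.map e.toMonoidHom).subtype_injective).2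
        (by rwa [Subgroup.range_subtype])
    · rw [← CfsgLib.PLocal.map_thompsonSubgroup e]
      exact Subgroup.map_mono hU.2
  refine le_antisymm (key e) fun y hy => ⟨e.symm y, ?_, e.apply_symm_apply y⟩
  haveI : Finite R := Finite.of_equiv Q e.toEquiv
  exact key e.symm ⟨y, hy, rfl⟩

theorem charFun_J : IsCharPFunctor.{u} 2 funJ :=
  ⟨fun Q _ _ hQ _ h => omega_center_ne_bot hQ (le_bot_iff.1 ((omega_center_le ⊤).trans
    (by rw [jel_top]; exact h.le))),
    fun _ _ _ _ _ _ e => CfsgLib.PLocal.map_thompsonSubgroup e⟩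

theorem charFun_H : IsCharPFunctor.{u} 2 funH :=
  ⟨fun Q _ _ hQ _ h => omega_center_ne_bot hQ (le_bot_iff.1 ((omega_center_le ⊤).trans
    (by rw [jel_top]; exact (thompson_le_jHat Q).trans h.le))),
    fun _ _ _ _ _ _ e => map_jHat e⟩

theorem charFun_Z : IsCharPFunctor.{u} 2 funZ := by
  refine ⟨fun Q _ _ hQ _ h => omega_center_ne_bot hQ (le_bot_iff.1 ?_), fun Q R _ _ _ _ e => ?_⟩
  · rw [← h]
    refine Subgroup.closure_mono fun x hx => ⟨⟨?_, ?_⟩, hx.2⟩
    · exact thompson_le_jHat Q (jel_top Q ▸ omega_center_le ⊤ (Subgroup.subset_closure hx))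
    · exact omega_center_le_centralizer le_top (Subgroup.subset_closure hx)
  · rw [funZ, funZ, CfsgLib.PLocal.map_omegaOne (f := e.toMonoidHom) e.injective,
      map_inf_centralizer (f := e.toMonoidHom) e.injective, map_jHat]

/-- The pair of functors. -/
def pairJZ : Set (∀ (Q : Type u) [Group Q], Subgroup Q) := {funJ, funZ}

theorem charFun_pairJZ : ∀ W ∈ pairJZ.{u}, IsCharPFunctor.{u} 2 W := by
  rintro W (rfl | rfl)
  · exact charFun_J
  · exact charFun_Z

/-! ### Constrained groups -/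

theorem le_normalizer_jel (T : Subgroup G) : T ≤ Subgroup.normalizer (Jel T : Set G) := fun _ ht =>
  mem_normalizer_jel le_rfl (fun _ hA => hA.le) (Subgroup.le_normalizer ht)

theorem le_normalizer_jh (T : Subgroup G) : T ≤ Subgroup.normalizer (Jh T : Set G) := fun _ ht =>
  mem_normalizer_jh le_rfl (fun _ hA => hA.le) (fun _ hM => hM.le) (Subgroup.le_normalizer ht)

omit [Finite G] in
theorem normalizer_jh_le_zh (T : Subgroup G) :
    Subgroup.normalizer (Jh T : Set G) ≤ Subgroup.normalizer (Zh T : Set G) :=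
  omegaOne_normal' (le_normalizer_of_le_inf le_rfl (le_normalizer_centralizer le_rfl))

theorem familyFusion_of_constrained (hchar : Constrained 2 G)
    (hfree : ¬ Involves (Equiv.Perm (Fin 4)) G) (hcomp : CompSzL2 G) :
    FamilyControlsStrongFusionIn 2 (indFam G pairJZ) ⊤ := by
  haveI : Fact (Nat.Prime 2) := ⟨Nat.prime_two⟩
  obtain ⟨S⟩ : Nonempty (Sylow 2 G) := inferInstance
  set T := (S : Subgroup G) with hT
  have hS := sylIn_top S
  refine ⟨T, le_top, S.2, hS.not_dvd, fun A g _ hA hgA => link_iff_chain.1 ?_⟩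
  have hcfg : Config T (⊤ : Subgroup G) T := by
    refine ⟨hfree, S.2, Syl.of_sylow S, le_rfl,
      hcomp.of_surjective (Subgroup.topEquiv (G := G)).symm.toMonoidHom
        (Subgroup.topEquiv (G := G)).symm.surjective, ?_, Jel_le _, fun M hM => hM.le⟩
    obtain ⟨-, -, -, h4⟩ := coreTwo_spec (⊤ : Subgroup G)
    have hQ : pCore 2 G ≤ pCoreOf 2 (⊤ : Subgroup G) :=
      h4 _ le_top (CfsgLib.Base.isPGroup_pCore 2 G) (by rw [Subgroup.normalizer_eq_top])
    exact inf_le_right.trans ((Subgroup.centralizer_le hQ).trans (hchar.trans hQ))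
  obtain ⟨c, -, hcC, hn⟩ := factors_of_config _ ⊤ _ le_rfl hcfg g (Subgroup.mem_top g)
  set n := c⁻¹ * g with hn'
  have hcZ : c ∈ Subgroup.normalizer (Zh T : Set G) := Subgroup.centralizer_le_normalizer _ hcC
  have hTZ : T ≤ Subgroup.normalizer (Zh T : Set G) :=
    (le_normalizer_jh T).trans (normalizer_jh_le_zh T)
  set M := Subgroup.normalizer (Zh T : Set G) ⊓ Subgroup.normalizer (Jel T : Set G) with hM
  have hTM : T ≤ M := le_inf hTZ (le_normalizer_jel T)
  have hnA : cj n (Subgroup.closure A) ≤ M := by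
    rw [Subgroup.map_le_iff_le_comap, Subgroup.closure_le]
    intro a ha
    refine ⟨?_, ?_⟩
    · have h1 : n * a * n⁻¹ = c⁻¹ * (g * a * g⁻¹) * c := by rw [hn']; group
      show n * a * n⁻¹ ∈ _
      rw [h1]
      exact Subgroup.mul_mem _ (Subgroup.mul_mem _ (Subgroup.inv_mem _ hcZ) (hTZ (hgA ⟨a, ha, rfl⟩)))
        hcZ
    · exact Subgroup.mul_mem _ (Subgroup.mul_mem _ hn (le_normalizer_jel T (hA ha)))
        (Subgroup.inv_mem _ hn)
  obtain ⟨k, hk, hkA⟩ := (hS.mono hTM le_top).exists_conj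
    (isPGroup_cj (S.2.to_le ((Subgroup.closure_le T).2 hA))) hnA
  have hx1 : lc (k * n) '' A ⊆ T := by
    rintro _ ⟨a, ha, rfl⟩
    rw [lc_mul]
    exact hkA ⟨_, ⟨a, Subgroup.subset_closure ha, rfl⟩, rfl⟩
  have hstepJ : ⊤ ⊓ Subgroup.normalizer (Jel T : Set G) ∈ stepSet (indFam G pairJZ) T ⊤ :=
    ⟨_, ⟨funJ, Or.inl rfl, rfl⟩, by dsimp only; rw [induced_funJ]⟩
  have hstepZ : ⊤ ⊓ Subgroup.normalizer (Zh T : Set G) ∈ stepSet (indFam G pairJZ) T ⊤ :=
    ⟨_, ⟨funZ, Or.inr rfl, rfl⟩, by dsimp only; rw [induced_funZ]⟩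
  have h1 : Link T (stepSet (indFam G pairJZ) T ⊤) A (k * n) :=
    Link.single hstepJ ⟨Subgroup.mem_top _, Subgroup.mul_mem _ hk.2 hn⟩ hA hx1
  have e : g = (c * k⁻¹) * (k * n) := by rw [hn']; group
  rw [e]
  refine h1.comp (Link.single hstepZ
    ⟨Subgroup.mem_top _, Subgroup.mul_mem _ hcZ (Subgroup.inv_mem _ hk.1)⟩ hx1 ?_)
  rw [Set.image_image]
  rintro _ ⟨a, ha, rfl⟩
  show lc _ (lc _ a) ∈ _
  rw [← lc_mul, ← e]
  exact hgA ⟨a, ha, rfl⟩

/-! ### The normal closure -/

/-- Elements of the normalizer of the fixed part `P` move `Ω₁(Z(T))` into `Ω₁(Z(Ĵ(T)))`. -/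
theorem conj_omega_center_le (hfree : ¬ Involves (Equiv.Perm (Fin 4)) G)
    (hsec : SectionsSatisfy G fun Y _ => Constrained 2 Y → CompSzL2 Y) (S : Sylow 2 G)
    {P : Subgroup G} (hJP : Jel (S : Subgroup G) ≤ P) (hPS : P ≤ S)
    (hSP : (S : Subgroup G) ≤ Subgroup.normalizer (P : Set G))
    (hcen : (S : Subgroup G) ⊓ Subgroup.centralizer (P : Set G) ≤ P)
    {y : G} (hy : y ∈ Subgroup.normalizer (P : Set G)) :
    cj y (omegaOne 2 ((S : Subgroup G) ⊓ Subgroup.centralizer ((S : Subgroup G) : Set G))) ≤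
      Zh (S : Subgroup G) := by
  haveI : Fact (Nat.Prime 2) := ⟨Nat.prime_two⟩
  set Y := Subgroup.normalizer (P : Set G)
  set TY : Sylow 2 Y := S.subtype hSP
  have hTY : ((TY : Subgroup Y)).map Y.subtype = S := by
    rw [Sylow.coe_subtype, Subgroup.map_subgroupOf_eq_of_le hSP]
  haveI : (P.subgroupOf Y).Normal := Subgroup.normal_in_normalizer
  have hP2 : IsPGroup 2 (P.subgroupOf Y) := (S.2.to_le hPS).comap_subtype
  have hcY : (TY : Subgroup Y) ⊓ Subgroup.centralizer (P.subgroupOf Y : Set Y) ≤ P.subgroupOf Y := by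
    rintro t ⟨ht, htc⟩
    refine hcen ⟨by rwa [Sylow.coe_subtype] at ht, Subgroup.mem_centralizer_iff.2 fun v hv => ?_⟩
    exact congrArg Subtype.val (Subgroup.mem_centralizer_iff.1 htc
      ⟨v, Subgroup.le_normalizer hv⟩ hv)
  set O := pPrimeCore 2 Y
  set π := QuotientGroup.mk' O with hπ
  have hsurj : Function.Surjective π := QuotientGroup.mk'_surjective O
  have hchar := CfsgLib.Fusion.centralizer_le_of_sylow TY hP2 hcY
  have hfree' : ¬ Involves (Equiv.Perm (Fin 4)) (Y ⧸ O) := fun h =>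
    hfree (CfsgLib.Fusion.involves_of_injective Y.subtype Y.subtype_injective
      (CfsgLib.Fusion.involves_of_quotient π hsurj h))
  obtain ⟨c, hc, n, -, hnH, hyn⟩ := center_factorization hchar hfree' (hsec _ Y π hsurj hchar)
    (TY.mapSurjective hsurj) (π ⟨y, hy⟩⁻¹)
  rw [Sylow.coe_mapSurjective] at hc hnH
  rw [← induced_funH] at hnH
  obtain ⟨n₀, hn₀, rfl⟩ := exists_lift_normalizer charFun_H TY.2
    (CfsgLib.Base.pPrimeCore_coprime 2 Y) hnH
  have hn₁ : (n₀ : G) ∈ Subgroup.normalizer (Zh (S : Subgroup G) : Set G) := by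
    refine normalizer_jh_le_zh _ ?_
    rw [← induced_funH, ← hTY, inducedFunctor_map_of_injective charFun_H TY.2 Y.subtype_injective]
    exact (mem_normalizer_map_iff Y.subtype_injective).2 hn₀
  set c₀ := (⟨y, hy⟩ : Y)⁻¹ * n₀⁻¹ with hc₀
  have hπc : π c₀ = c := by rw [hc₀, map_mul, hyn, map_inv, mul_inv_cancel_right]
  have hfix : ∀ z ∈ omegaOne 2 ((S : Subgroup G) ⊓ Subgroup.centralizer ((S : Subgroup G) : Set G)),
      (c₀ : G) * z * (c₀ : G)⁻¹ = z := by
    intro z hz
    have hzP : z ∈ P := hJP (omega_center_le _ hz)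
    have hzS : z ∈ (S : Subgroup G) := hPS hzP
    set z₀ : Y := ⟨z, hSP hzS⟩
    have hzT : z₀ ∈ (TY : Subgroup Y) := by rw [Sylow.coe_subtype]; exact hzS
    have h1 : π (c₀ * z₀ * c₀⁻¹ * z₀⁻¹) = 1 := by
      have h2 : π z₀ * c = c * π z₀ := by
        refine Subgroup.mem_centralizer_iff.1 hc _ ⟨⟨z₀, hzT, rfl⟩, ?_⟩
        refine Subgroup.mem_centralizer_iff.2 ?_
        rintro _ ⟨t, ht, rfl⟩
        have ht' : (t : G) ∈ (S : Subgroup G) := by rwa [Sylow.coe_subtype] at ht
        rw [← map_mul, ← map_mul]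
        exact congrArg π (Subtype.ext
          (Subgroup.mem_centralizer_iff.1 ((omegaOne_le' _) hz).2 (t : G) ht'))
      rw [map_mul, map_mul, map_mul, hπc, map_inv, map_inv, hπc, ← h2, mul_inv_cancel_right,
        mul_inv_cancel]
    have h3 : c₀ * z₀ * c₀⁻¹ * z₀⁻¹ ∈ P.subgroupOf Y ⊓ O :=
      ⟨Subgroup.mul_mem _ ((inferInstance : (P.subgroupOf Y).Normal).conj_mem z₀ hzP c₀)
        (Subgroup.inv_mem _ hzP), (QuotientGroup.eq_one_iff _).1 h1⟩
    rw [CfsgLib.Base.inf_eq_bot_of_isPGroup_of_coprime hP2 (CfsgLib.Base.pPrimeCore_coprime 2 Y),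
      Subgroup.mem_bot, mul_inv_eq_one] at h3
    exact congrArg Subtype.val h3
  rintro _ ⟨z, hz, rfl⟩
  show y * z * y⁻¹ ∈ _
  have e : y = (n₀ : G)⁻¹ * (c₀ : G)⁻¹ := by
    rw [hc₀]
    simp
  have hz' : (c₀ : G)⁻¹ * z * (c₀ : G) = z := by
    conv_lhs => rw [← hfix z hz]
    group
  have e2 : y * z * y⁻¹ = (n₀ : G)⁻¹ * ((c₀ : G)⁻¹ * z * (c₀ : G)) * (n₀ : G) := by
    rw [e]; group
  rw [e2, hz']
  exact (Subgroup.mem_normalizer_iff''.1 hn₁ z).1 (omega_center_le_zh _ hz)

/-- Glauberman's strongly closed abelian subgroup. -/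
theorem strongly_closed (hfree : ¬ Involves (Equiv.Perm (Fin 4)) G)
    (hsec : SectionsSatisfy G fun Y _ => Constrained 2 Y → CompSzL2 Y) (S : Sylow 2 G)
    (N A : Subgroup G) (hN : N = Subgroup.normalizer (Jel (S : Subgroup G) : Set G))
    (hA : A = (Subgroup.normalClosure (((omegaOne 2 ((S : Subgroup G) ⊓
      Subgroup.centralizer ((S : Subgroup G) : Set G))).subgroupOf N : Subgroup ↥N) : Set ↥N)).map
        N.subtype) :
    A ≤ S ∧ IsElementaryAbelian 2 A ∧ IsStronglyClosed A (S : Subgroup G) ∧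
      ControlsStrongFusion 2 A := by
  haveI : Fact (Nat.Prime 2) := ⟨Nat.prime_two⟩
  set T := (S : Subgroup G) with hTdef
  set J := Jel T with hJ
  set Z₁ := omegaOne 2 (T ⊓ Subgroup.centralizer (T : Set G)) with hZ₁
  have hTN : T ≤ N := hN ▸ le_normalizer_jel T
  have hbound : ∀ B : Subgroup G, (∀ g ∈ N, cj g Z₁ ≤ B) → A ≤ B := by
    intro B hB
    rw [hA, Subgroup.map_le_iff_le_comap, Subgroup.normalClosure, Subgroup.closure_le]
    intro x hx
    obtain ⟨a, ha, hax⟩ := Group.mem_conjugatesOfSet_iff.1 hx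
    obtain ⟨g, rfl⟩ := isConj_iff.1 hax
    exact hB g g.2 ⟨a, ha, rfl⟩
  -- `A` is elementary abelian and lies in `J`
  set W := omegaOne 2 (J ⊓ Subgroup.centralizer (J : Set G)) with hW
  have hWn : N ≤ Subgroup.normalizer (W : Set G) := omegaOne_normal'
    (le_normalizer_of_le_inf hN.le (le_normalizer_centralizer hN.le))
  have hZW : Z₁ ≤ W := Subgroup.closure_mono fun x hx =>
    ⟨⟨omega_center_le T (Subgroup.subset_closure hx),
      omega_center_le_centralizer (Jel_le T) (Subgroup.subset_closure hx)⟩, hx.2⟩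
  have hAW : A ≤ W := hbound W fun g hg => (cj_mono hZW).trans (mem_normalizer_iff_cj.1 (hWn hg)).le
  have hAT : A ≤ T := hAW.trans ((omegaOne_le' _).trans (inf_le_left.trans (Jel_le T)))
  have hAel : IsElementaryAbelian 2 A :=
    el_mono (el_omegaOne (CfsgLib.PLocal.inf_centralizer_le_centralizer J)) hAW
  -- `N` normalises `A`
  have hNA : N ≤ Subgroup.normalizer (A : Set G) := by
    intro g hg
    refine mem_normalizer_of_conj_mem fun a ha => ?_
    rw [hA] at ha ⊢
    obtain ⟨b, hb, rfl⟩ := ha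
    exact ⟨⟨g, hg⟩ * b * ⟨g, hg⟩⁻¹, Subgroup.normalClosure_normal.conj_mem b hb ⟨g, hg⟩, rfl⟩
  -- `A ≤ Ω₁(Z(Ĵ))`
  set K := J ⊔ Subgroup.centralizer (J : Set G) with hK
  have hKN : K ≤ N := hN ▸ sup_le Subgroup.le_normalizer (Subgroup.centralizer_le_normalizer _)
  have hNK : N ≤ Subgroup.normalizer (K : Set G) := fun g hg => mem_normalizer_iff_cj.2 (by
    rw [hK, cj, Subgroup.map_sup]
    exact congrArg₂ (· ⊔ ·) (mem_normalizer_iff_cj.1 (hN.le hg))
      (mem_normalizer_iff_cj.1 (le_normalizer_centralizer hN.le hg)))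
  set P := T ⊓ K with hP
  have hJP : J ≤ P := le_inf (Jel_le T) le_sup_left
  have hTP : T ≤ Subgroup.normalizer (P : Set G) :=
    le_normalizer_of_le_inf Subgroup.le_normalizer (hTN.trans hNK)
  have hcen : T ⊓ Subgroup.centralizer (P : Set G) ≤ P :=
    le_inf inf_le_left (inf_le_right.trans ((Subgroup.centralizer_le hJP).trans le_sup_right))
  have hAZ : A ≤ Zh T := hbound _ fun g hg => by
    obtain ⟨k, hk, m, -, hm, rfl⟩ := ((Syl.of_sylow S).mono hTN le_top).frattini hKN hNK hg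
    rw [hK, sup_comm] at hk
    obtain ⟨d, hd, j, hj, rfl⟩ := CfsgLib.LocalEven.SzL2.exists_mul_of_mem_sup
      (Subgroup.centralizer_le_normalizer _) hk
    have hjm : j * m ∈ Subgroup.normalizer (P : Set G) :=
      Subgroup.mul_mem _ (Subgroup.le_normalizer (hJP hj)) hm
    rw [mul_assoc, cj_mul]
    have hjmN : j * m ∈ N := by
      have h1 := N.mul_mem (N.inv_mem (hN ▸ Subgroup.centralizer_le_normalizer _ hd)) hg
      rwa [mul_assoc, inv_mul_cancel_left] at h1
    refine le_trans (le_of_eq ?_) (conj_omega_center_le hfree hsec S hJP inf_le_left hTP hcen hjm)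
    refine (Subgroup.eq_of_le_of_card_ge ?_ (card_cj _ _).ge)
    rintro _ ⟨v, hv, rfl⟩
    have hvJ : v ∈ J := by
      have h2 : v ∈ W := (cj_mono hZW).trans (mem_normalizer_iff_cj.1 (hWn hjmN)).le hv
      exact ((omegaOne_le' _) h2).1
    show d * v * d⁻¹ ∈ _
    rwa [← Subgroup.mem_centralizer_iff.1 hd v hvJ, mul_inv_cancel_right]
  -- the normalizer of `Ω₁(Z(Ĵ))` normalises `A`
  have hTZ : T ≤ Subgroup.normalizer (Zh T : Set G) :=
    (le_normalizer_jh T).trans (normalizer_jh_le_zh T)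
  have hZA : Subgroup.normalizer (Zh T : Set G) ≤ Subgroup.normalizer (A : Set G) := by
    intro g hg
    obtain ⟨k, hk, m, -, hm, rfl⟩ := ((Syl.of_sylow S).mono hTZ le_top).frattini
      (Subgroup.centralizer_le_normalizer _) (le_normalizer_centralizer le_rfl) hg
    refine Subgroup.mul_mem _ (Subgroup.centralizer_le_normalizer _
      (Subgroup.centralizer_le hAZ hk)) (hNA ?_)
    rw [hN]
    refine mem_normalizer_jel inf_le_left (fun E hE => le_inf hE.le ?_) hm
    rw [Subgroup.le_centralizer_iff]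
    exact (omegaOne_le' _).trans (inf_le_right.trans
      (Subgroup.centralizer_le (hE.le_Jel.trans (jel_le_jh T))))
  -- fusion
  have hsec' : SectionsSatisfy G fun Y _ => Constrained 2 Y →
      FamilyControlsStrongFusionIn 2 (indFam Y pairJZ) ⊤ := by
    intro Y _ L f hf hc
    haveI : Finite Y := Finite.of_surjective f hf
    exact familyFusion_of_constrained hc (fun h => hfree (CfsgLib.Fusion.involves_of_injective
      L.subtype L.subtype_injective (CfsgLib.Fusion.involves_of_quotient f hf h))) (hsec Y L f hf hc)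
  have hctl := familyFusion_of_sections charFun_pairJZ G
    (hsec'.imp fun Y _ _ h _ _ hc => h hc)
  have hat := familyFusionAt_of_controls (isConjugacyFunctor_indFam charFun_pairJZ) (sylIn_top S) hctl
  have hfus : ∀ B : Set G, B ⊆ T → ∀ g : G, lc g '' B ⊆ T →
      ∃ x ∈ Subgroup.normalizer (A : Set G), ∀ a ∈ B, lc g a = lc x a := by
    intro B hB g hg
    have hl := link_iff_chain.2 (hat B g (Subgroup.mem_top g) hB hg)
    clear hg hB
    induction hl with
    | @agree B g hB h => exact ⟨1, Subgroup.one_mem _, fun a ha => by rw [h a ha, lc_one]⟩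
    | @step B g x g' M hM hx hB h' h ih =>
      obtain ⟨x', hx', e'⟩ := ih
      refine ⟨x' * x, Subgroup.mul_mem _ hx' ?_, fun a ha => by
        rw [lc_mul, h a ha, e' _ ⟨a, ha, rfl⟩]⟩
      obtain ⟨_, ⟨V, hV, rfl⟩, rfl⟩ := hM
      rcases hV with rfl | rfl
      · have := hx.2
        dsimp only at this
        rw [induced_funJ, ← hJ, ← hN] at this
        exact hNA this
      · have := hx.2
        dsimp only at this
        rw [induced_funZ] at this
        exact hZA this
  refine ⟨hAT, hAel, ⟨hAT, fun x hx g hgx => ?_⟩, S, hAT, fun B hB => ⟨hB, fun g hg => ?_⟩⟩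
  · obtain ⟨n, hn, e⟩ := hfus {x} (Set.singleton_subset_iff.2 (hAT hx)) g
      (by rw [Set.image_singleton]; exact Set.singleton_subset_iff.2 hgx)
    have := e x rfl
    simp only [lc] at this
    rw [this]
    exact (Subgroup.mem_normalizer_iff.1 hn x).1 hx
  · obtain ⟨n, hn, e⟩ := hfus B hB g hg
    exact ⟨n, hn, e⟩

end CfsgLib.LocalEven.TwoFactor
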